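import Mathlib.GroupTheory.Sylow
import Mathlib.GroupTheory.PGroup
import Mathlib.FieldTheory.Finite.Basic
import Mathlib.Algebra.Group.Subgroup.Pointwise

/-!
# S4880, classification half: interface (helper319)

* `OneAut p S` : `Aut S` is transitive on the elements of order `p` of `S`;
* `Hyp p n S` : `p ≥ 5`, `n ≥ 2`, `n ≥ 3` if `p = 5`, `OneAut p S`, the Sylow `p`-subgroups of `S` have order `p ^ n` and
  are elementary abelian;
* `Loc p e S` : commuting elements `x`, `y` of order `p`, `y ∉ ⟨x⟩`, `c ∈ C(x)`, `c y c⁻¹ = y ^ k`, `k` of order `e`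
  modulo `p`.

A row is a theorem `Hyp p n S → False` or `Hyp p n S → Loc p e S`.
-/

set_option autoImplicit false

namespace Cfsg.Agent.H319.One

variable {p n : ℕ}

/-- `Aut S` is transitive on the elements of order `p`. -/
def OneAut (p : ℕ) (S : Type*) [Group S] : Prop :=
  ∀ x y : S, orderOf x = p → orderOf y = p → ∃ φ : MulAut S, φ x = y

/-- `y` commutes with `x`, and an element of `C(x)` acts on `⟨y⟩` as an automorphism of order `e`. -/
def Loc (p e : ℕ) (S : Type*) [Group S] : Prop :=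
  ∃ x y c : S, ∃ k : ℕ, orderOf x = p ∧ orderOf y = p ∧ x * y = y * x ∧ y ∉ Subgroup.zpowers x ∧ c * x = x * c ∧
    c * y * c⁻¹ = y ^ k ∧ orderOf (k : ZMod p) = e

/-- The hypothesis of the rows. -/
structure Hyp (p n : ℕ) (S : Type*) [Group S] : Prop where
  five : 5 ≤ p
  two : 2 ≤ n
  three : p = 5 → 3 ≤ n
  one : OneAut p S
  card : ∀ P : Sylow p S, Nat.card P = p ^ n
  comm : ∀ Q : Subgroup S, IsPGroup p Q → ∀ a ∈ Q, ∀ b ∈ Q, a * b = b * a
  exp : ∀ (x : S) (k : ℕ), x ^ p ^ k = 1 → x ^ p = 1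

section

variable {S S' : Type*} [Group S] [Group S']

theorem OneAut.congr (h : OneAut p S) (e : S ≃* S') : OneAut p S' := by
  intro x y hx hy
  obtain ⟨φ, hφ⟩ := h (e.symm x) (e.symm y) (by rw [e.symm.orderOf_eq, hx]) (by rw [e.symm.orderOf_eq, hy])
  refine ⟨(e.symm.trans φ).trans e, ?_⟩
  show e (φ (e.symm x)) = y
  rw [hφ, e.apply_symm_apply]

theorem Loc.congr {e : ℕ} (h : Loc p e S) (f : S ≃* S') : Loc p e S' := by
  obtain ⟨x, y, c, k, hx, hy, hxy, hn, hc, hk, he⟩ := h
  refine ⟨f x, f y, f c, k, by rw [f.orderOf_eq, hx], by rw [f.orderOf_eq, hy], by rw [← map_mul, hxy, map_mul], ?_,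
    by rw [← map_mul, hc, map_mul], by rw [← map_inv, ← map_mul, ← map_mul, hk, map_pow], he⟩
  rintro ⟨m, hm⟩
  apply hn
  refine ⟨m, f.injective ?_⟩
  simpa using hm

theorem Hyp.congr [Finite S] [Fact p.Prime] (h : Hyp p n S) (e : S ≃* S') : Hyp p n S' where
  five := h.five
  two := h.two
  three := h.three
  one := h.one.congr e
  card := by
    intro P
    have hfin : Finite S' := Finite.of_equiv S e.toEquiv
    obtain ⟨P0⟩ : Nonempty (Sylow p S) := inferInstance
    have h1 := h.card P0
    rw [Sylow.card_eq_multiplicity] at h1 ⊢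
    rw [← h1, Nat.card_congr e.toEquiv]
  comm := by
    intro Q hQ a ha b hb
    have h1 := h.comm (Q.comap e.toMonoidHom) (hQ.comap_of_injective e.toMonoidHom e.injective) (e.symm a)
      (by show e (e.symm a) ∈ Q; rwa [e.apply_symm_apply]) (e.symm b)
      (by show e (e.symm b) ∈ Q; rwa [e.apply_symm_apply])
    rw [← map_mul, ← map_mul] at h1
    exact e.symm.injective h1
  exp := by
    intro x k hx
    have h1 := h.exp (e.symm x) k (by rw [← map_pow, hx, map_one])
    rw [← map_pow] at h1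
    exact (map_eq_one_iff e.symm e.symm.injective).1 h1

/-- A function invariant under `Aut S` is constant on the elements of order `p`. -/
theorem OneAut.eq {α : Type*} (h : OneAut p S) (I : S → α) (hI : ∀ (φ : MulAut S) x, orderOf x = p → I (φ x) = I x)
    {x y : S} (hx : orderOf x = p) (hy : orderOf y = p) : I x = I y := by
  obtain ⟨φ, rfl⟩ := h x y hx hy
  exact (hI φ x hx).symm

theorem card_centralizer_aut (φ : MulAut S) (x : S) :
    Nat.card ↥(Subgroup.centralizer {φ x}) = Nat.card ↥(Subgroup.centralizer {x}) := by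
  refine Nat.card_congr ⟨fun y => ⟨φ.symm y.1, ?_⟩, fun y => ⟨φ y.1, ?_⟩, fun y => ?_, fun y => ?_⟩
  · rw [Subgroup.mem_centralizer_singleton_iff]
    have h1 := Subgroup.mem_centralizer_singleton_iff.1 y.2
    apply φ.injective
    rw [map_mul, map_mul, φ.apply_symm_apply]
    exact h1
  · rw [Subgroup.mem_centralizer_singleton_iff]
    have h1 := Subgroup.mem_centralizer_singleton_iff.1 y.2
    rw [← map_mul, ← map_mul, h1]
  · exact Subtype.ext (φ.apply_symm_apply _)
  · exact Subtype.ext (φ.symm_apply_apply _)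

/-- The centralizers of the elements of order `p` have the same order. -/
theorem OneAut.card_centralizer (h : OneAut p S) {x y : S} (hx : orderOf x = p) (hy : orderOf y = p) :
    Nat.card ↥(Subgroup.centralizer {x}) = Nat.card ↥(Subgroup.centralizer {y}) :=
  h.eq (fun x => Nat.card ↥(Subgroup.centralizer {x})) (fun φ x _ => card_centralizer_aut φ x) hx hy

variable [Fact p.Prime]

theorem Hyp.prime (_ : Hyp p n S) : p.Prime := Fact.out

theorem Hyp.order_of_mem (h : Hyp p n S) {Q : Subgroup S} (hQ : IsPGroup p Q) {x : S} (hx : x ∈ Q) (h1 : x ≠ 1) :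
    orderOf x = p := by
  obtain ⟨k, hk⟩ := hQ ⟨x, hx⟩
  have hk' : x ^ p ^ k = 1 := congrArg Subtype.val hk
  exact orderOf_eq_prime (h.exp x k hk') h1

/-- `p ^ n` is the exact power of `p` dividing the order. -/
theorem Hyp.dvd [Finite S] (h : Hyp p n S) : p ^ n ∣ Nat.card S := by
  obtain ⟨P⟩ : Nonempty (Sylow p S) := inferInstance
  rw [← h.card P]
  exact Subgroup.card_subgroup_dvd_card _

theorem Hyp.not_dvd [Finite S] (h : Hyp p n S) : ¬ p ^ (n + 1) ∣ Nat.card S := by
  obtain ⟨P⟩ : Nonempty (Sylow p S) := inferInstance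
  have h1 := h.card P
  rw [Sylow.card_eq_multiplicity] at h1
  have h2 := Nat.pow_right_injective (Fact.out : p.Prime).two_le h1
  intro h3
  have h4 := ((Fact.out : p.Prime).pow_dvd_iff_le_factorization Nat.card_pos.ne').1 h3
  omega

theorem Hyp.le_of_dvd [Finite S] (h : Hyp p n S) {m : ℕ} (hm : p ^ m ∣ Nat.card S) : m ≤ n := by
  by_contra hlt
  push Not at hlt
  exact h.not_dvd ((pow_dvd_pow p hlt).trans hm)

/-- A cyclic `p`-subgroup has order at most `p`. -/
theorem Hyp.orderOf_le (h : Hyp p n S) {x : S} {k : ℕ} (hx : orderOf x = p ^ k) : k ≤ 1 := by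
  have h1 := h.exp x k (by rw [← hx]; exact pow_orderOf_eq_one x)
  have h2 := orderOf_dvd_of_pow_eq_one h1
  rw [hx] at h2
  by_contra hlt
  push Not at hlt
  have h3 : p ^ 2 ∣ p ^ 1 := by rw [pow_one]; exact (pow_dvd_pow p hlt).trans h2
  have h4 := (Nat.pow_dvd_pow_iff_le_right (Fact.out : p.Prime).one_lt).1 h3
  omega

/-- A group containing a cyclic Sylow `p`-subgroup does not satisfy `Hyp`. -/
theorem Hyp.not_cyclic [Finite S] (h : Hyp p n S) (P : Sylow p S) (hc : IsCyclic ↥(P : Subgroup S)) : False := by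
  obtain ⟨g, hg⟩ := hc.exists_generator
  have h1 : orderOf (g : S) = p ^ n := by
    rw [Subgroup.orderOf_coe, orderOf_eq_card_of_forall_mem_zpowers hg]
    exact h.card P
  have := h.orderOf_le h1
  have := h.two
  omega

theorem Hyp.card_centralizer (h : Hyp p n S) {x y : S} (hx : orderOf x = p) (hy : orderOf y = p) :
    Nat.card ↥(Subgroup.centralizer {x}) = Nat.card ↥(Subgroup.centralizer {y}) :=
  h.one.card_centralizer hx hy

end

end Cfsg.Agent.H319.One
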