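import Cfsg.Agent.H319.One.Line

/-!
# Counting characters on lines (helper319, S4880)

`E` elementary abelian of order `p ^ (a + 2)`, `χ b` (`b ∈ Φ`, finite) characters of `E` such that the number of `b` with
`χ b x = 1` is the same for all `x ≠ 1`; `H` a group of multipliers (for `u ∈ H` a permutation `g` of `Φ` with
`χ (g b) = (χ b) ^ u`). Then `|Φ| = c + M (1 + p + ... + p ^ (a + 1))` with `c` the number of trivial characters, `|H| ∣ M` and
`|H| * #{b | χ b = χ b₀} ≤ M` if `χ b₀ ≠ 1`.
-/

set_option autoImplicit false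
set_option linter.unusedSectionVars false

namespace Cfsg.Agent.H319.One.Comb

open Finset

variable {E : Type*} [CommGroup E] [Fintype E] {K : Type*} [Field K] {Φ : Type*} [Fintype Φ] [DecidableEq Φ]

section

variable {p : ℕ} [hp : Fact p.Prime]

omit [Fintype E] in
/-- the power by a residue class -/
theorem pow_val_mul {lam : E →* Kˣ} (hl : ∀ x, lam x ^ p = 1) (u v : ZMod p) :
    lam ^ (u * v).val = (lam ^ u.val) ^ v.val := by
  refine MonoidHom.ext fun x => ?_
  rw [MonoidHom.pow_apply, MonoidHom.pow_apply, MonoidHom.pow_apply, ← pow_mul, ZMod.val_mul]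
  conv_rhs => rw [← Nat.mod_add_div (u.val * v.val) p, pow_add, pow_mul (lam x) p, hl, one_pow, mul_one]

omit [Fintype E] in
theorem hpow_zero (lam : E →* Kˣ) : lam ^ 0 = 1 := by
  refine MonoidHom.ext fun x => ?_
  rw [MonoidHom.pow_apply, pow_zero]
  rfl

omit [Fintype E] in
theorem hpow_one (lam : E →* Kˣ) : lam ^ 1 = lam := by
  refine MonoidHom.ext fun x => ?_
  rw [MonoidHom.pow_apply, pow_one]

theorem char_pow (hexp : ∀ x : E, x ^ p = 1) (lam : E →* Kˣ) : ∀ x, lam x ^ p = 1 := by
  intro x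
  rw [← map_pow, hexp, map_one]

/-- A character trivial on the kernel of `lam` is a power of `lam`. -/
theorem exists_pow (hexp : ∀ x : E, x ^ p = 1) {lam mu : E →* Kˣ} (hl : lam ≠ 1) (hm : mu ≠ 1)
    (hker : lam.ker ≤ mu.ker) : ∃ u : (ZMod p)ˣ, mu = lam ^ (u : ZMod p).val := by
  obtain ⟨x, hx⟩ : ∃ x, lam x ≠ 1 := by
    by_contra hcon
    push Not at hcon
    exact hl (MonoidHom.ext hcon)
  have h1 : (lam x) ^ p = 1 := by rw [← map_pow, hexp, map_one]
  have h2 : (mu x) ^ p = 1 := by rw [← map_pow, hexp, map_one]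
  have ho : orderOf (lam x) = p := orderOf_eq_prime h1 hx
  have hprim : IsPrimitiveRoot ((lam x : Kˣ) : K) p := by
    rw [IsPrimitiveRoot.coe_units_iff, ← ho]
    exact IsPrimitiveRoot.orderOf _
  have hroot : ∀ y, ∃ i, i < p ∧ (lam x) ^ i = lam y := by
    intro y
    have h3 : ((lam y : Kˣ) : K) ^ p = 1 := by rw [← Units.val_pow_eq_pow_val, ← map_pow, hexp, map_one, Units.val_one]
    obtain ⟨i, hi, e⟩ := hprim.eq_pow_of_pow_eq_one h3
    exact ⟨i, hi, Units.ext (by rw [Units.val_pow_eq_pow_val, e])⟩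
  obtain ⟨i, hi, e⟩ : ∃ i, i < p ∧ (lam x) ^ i = mu x := by
    have h3 : ((mu x : Kˣ) : K) ^ p = 1 := by rw [← Units.val_pow_eq_pow_val, h2, Units.val_one]
    obtain ⟨i, hi, e⟩ := hprim.eq_pow_of_pow_eq_one h3
    exact ⟨i, hi, Units.ext (by rw [Units.val_pow_eq_pow_val, e])⟩
  have h4 : mu = lam ^ i := by
    ext y
    obtain ⟨j, -, ej⟩ := hroot y
    have h5 : y * (x ^ j)⁻¹ ∈ lam.ker := by
      rw [MonoidHom.mem_ker, map_mul, map_inv, map_pow, ej, mul_inv_cancel]
    have h6 : mu (y * (x ^ j)⁻¹) = 1 := hker h5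
    rw [map_mul, map_inv, map_pow, mul_inv_eq_one] at h6
    rw [MonoidHom.pow_apply, h6, ← ej, ← e, ← pow_mul, ← pow_mul, mul_comm]
  have hi0 : i ≠ 0 := by
    rintro rfl
    apply hm
    rw [h4, hpow_zero]
  have h5 : ((i : ℕ) : ZMod p).val = i := ZMod.val_cast_of_lt hi
  have h6 : ((i : ℕ) : ZMod p) ≠ 0 := by
    intro h0
    apply hi0
    rw [← h5, h0, ZMod.val_zero]
  refine ⟨Units.mk0 _ h6, ?_⟩
  rw [Units.val_mk0, h5]
  exact h4

theorem pow_inj (hexp : ∀ x : E, x ^ p = 1) {lam : E →* Kˣ} (hl : lam ≠ 1) {u v : ZMod p}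
    (h : lam ^ u.val = lam ^ v.val) : u = v := by
  obtain ⟨x, hx⟩ : ∃ x, lam x ≠ 1 := by
    by_contra hcon
    push Not at hcon
    exact hl (MonoidHom.ext hcon)
  have h1 : (lam x) ^ p = 1 := by rw [← map_pow, hexp, map_one]
  have ho : orderOf (lam x) = p := orderOf_eq_prime h1 hx
  have h2 : (lam x) ^ u.val = (lam x) ^ v.val := by
    rw [← MonoidHom.pow_apply, h, MonoidHom.pow_apply]
  have h3 := pow_injOn_Iio_orderOf (x := lam x) (by rw [ho]; exact ZMod.val_lt u) (by rw [ho]; exact ZMod.val_lt v) h2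
  exact ZMod.val_injective p h3

end

/-- Sums of functions invariant under a subgroup. -/
theorem card_dvd_sum {G : Type*} [Group G] [Fintype G] (H : Subgroup G) (w : G → ℕ) (hw : ∀ g, ∀ u ∈ H, w (g * u) = w g) :
    Nat.card H ∣ ∑ g, w g ∧ ∀ g, Nat.card H * w g ≤ ∑ g, w g := by
  classical
  have : Fintype H := Fintype.ofFinite _
  have : Fintype (G ⧸ H) := Fintype.ofFinite _
  have h1 : ∑ g, w g = ∑ c : G ⧸ H, Nat.card H * w c.out := by
    rw [← Fintype.sum_equiv (Subgroup.groupEquivQuotientProdSubgroup (s := H)).symm (fun x => w x.1.out) w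
      (fun x => ?_)]
    · rw [Fintype.sum_prod_type]
      refine Finset.sum_congr rfl fun c _ => ?_
      show ∑ _y : H, w c.out = _
      rw [Finset.sum_const, Finset.card_univ, smul_eq_mul, Nat.card_eq_fintype_card]
    · obtain ⟨c, u⟩ := x
      have h2 : ∃ u' ∈ H, (Subgroup.groupEquivQuotientProdSubgroup (s := H)).symm (c, u) = c.out * u' := by
        have h3 : (QuotientGroup.mk ((Subgroup.groupEquivQuotientProdSubgroup (s := H)).symm (c, u)) : G ⧸ H) = c := by
          exact congrArg Prod.fst ((Subgroup.groupEquivQuotientProdSubgroup (s := H)).apply_symm_apply (c, u))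
        have h4 : (QuotientGroup.mk (c.out) : G ⧸ H) = QuotientGroup.mk ((Subgroup.groupEquivQuotientProdSubgroup (s := H)).symm (c, u)) := by
          rw [h3]
          exact Quotient.out_eq' c
        exact ⟨_, QuotientGroup.eq.1 h4, by rw [mul_inv_cancel_left]⟩
      obtain ⟨u', hu', e⟩ := h2
      show w c.out = _
      rw [e, hw _ _ hu']
  have h2 : ∀ g, w g = w (QuotientGroup.mk g : G ⧸ H).out := by
    intro g
    have h4 : (QuotientGroup.mk g : G ⧸ H) = QuotientGroup.mk (QuotientGroup.mk g : G ⧸ H).out := (Quotient.out_eq' _).symm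
    have h5 := QuotientGroup.eq.1 h4
    have h6 := hw g _ h5
    rw [mul_inv_cancel_left] at h6
    exact h6.symm
  constructor
  · rw [h1]
    exact Finset.dvd_sum fun c _ => dvd_mul_right _ _
  · intro g
    rw [h1, h2 g]
    exact Finset.single_le_sum (f := fun c : G ⧸ H => Nat.card H * w c.out) (fun _ _ => Nat.zero_le _) (Finset.mem_univ _)

/-- **Counting.** -/
theorem count {p a Z : ℕ} [hp : Fact p.Prime] (hexp : ∀ x : E, x ^ p = 1) (hcard : Nat.card E = p ^ (a + 2))
    (χ : Φ → (E →* Kˣ)) [DecidableEq K] (hZ : ∀ x : E, x ≠ 1 → (univ.filter fun b => χ b x = 1).card = Z)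
    (H : Subgroup (ZMod p)ˣ)
    (hH : ∀ u ∈ H, ∃ g : Equiv.Perm Φ, ∀ b, χ (g b) = (χ b) ^ (u : ZMod p).val) :
    ∃ c M, c = Nat.card {b // χ b = 1} ∧
      Fintype.card Φ = c + M * ∑ i ∈ range (a + 2), p ^ i ∧
      Nat.card H ∣ M ∧
      ∀ b₀, χ b₀ ≠ 1 → Nat.card H * Nat.card {b // χ b = χ b₀} ≤ M := by
  classical
  have hpp : p.Prime := hp.out
  -- the key formula
  have key : ∀ (b : ℕ) (Q : Subgroup E), Nat.card Q = p ^ (b + 1) →
      Fintype.card Φ + (p ^ (b + 1) - 1) * Z = p ^ b * Fintype.card Φ +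
        (p ^ (b + 1) - p ^ b) * (univ.filter fun i => Q ≤ (χ i).ker).card := by
    intro b Q hQ
    have h1 : ∑ x : Q, (univ.filter fun i => χ i (x : E) = 1).card = ∑ i : Φ, Nat.card ↥(Q ⊓ (χ i).ker) := by
      simp_rw [Finset.card_filter]
      rw [Finset.sum_comm]
      refine Finset.sum_congr rfl fun i _ => ?_
      rw [← Finset.card_filter, Nat.card_eq_fintype_card, ← Fintype.card_subtype]
      exact Fintype.card_congr ⟨fun y => ⟨y.1.1, y.1.2, y.2⟩, fun y => ⟨⟨y.1, y.2.1⟩, y.2.2⟩, fun y => rfl, fun y => rfl⟩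
    have h2 : ∑ x : Q, (univ.filter fun i => χ i (x : E) = 1).card = Fintype.card Φ + (p ^ (b + 1) - 1) * Z := by
      rw [← Finset.add_sum_erase Finset.univ _ (Finset.mem_univ (1 : Q))]
      congr 1
      · rw [Finset.filter_true_of_mem, Finset.card_univ]
        intro i _
        exact map_one (χ i)
      · rw [Finset.sum_congr rfl (g := fun _ => Z) (fun x hx => hZ _ fun h4 =>
          (Finset.mem_erase.1 hx).1 (Subtype.ext h4)), Finset.sum_const, smul_eq_mul,
          Finset.card_erase_of_mem (Finset.mem_univ _), Finset.card_univ, ← Nat.card_eq_fintype_card, hQ]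
    rw [← h2, h1, Finset.card_filter, Finset.mul_sum, ← Finset.card_univ (α := Φ), Finset.card_eq_sum_ones, Finset.mul_sum,
      ← Finset.sum_add_distrib]
    refine Finset.sum_congr rfl fun i _ => ?_
    by_cases h : Q ≤ (χ i).ker
    · rw [if_pos h, inf_eq_left.2 h, hQ]
      have h3 : p ^ b ≤ p ^ (b + 1) := Nat.pow_le_pow_right hpp.pos (Nat.le_succ b)
      omega
    · rw [if_neg h, Weights.card_inf_ker hpp hexp Q hQ (χ i) h]
      omega
  have htop : Nat.card (⊤ : Subgroup E) = p ^ (a + 2) := by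
    rw [Nat.card_congr (Subgroup.topEquiv (G := E)).toEquiv, hcard]
  have hker1 : ∀ i, (⊤ : Subgroup E) ≤ (χ i).ker ↔ χ i = 1 := by
    intro i
    constructor
    · intro h
      exact MonoidHom.ext fun x => h (Subgroup.mem_top x)
    · intro h x _
      rw [MonoidHom.mem_ker, h]
      rfl
  set c := (univ.filter fun i => (⊤ : Subgroup E) ≤ (χ i).ker).card with hc
  have hle : ∀ Q : Subgroup E, c ≤ (univ.filter fun i => Q ≤ (χ i).ker).card := by
    intro Q
    apply Finset.card_le_card
    intro i hi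
    rw [Finset.mem_filter] at hi ⊢
    exact ⟨hi.1, le_top.trans hi.2⟩
  have e0 := key (a + 1) ⊤ htop
  have hS : 0 < ∑ i ∈ range (a + 2), p ^ i :=
    Finset.sum_pos (fun i _ => Nat.pow_pos hpp.pos) ⟨0, by simp⟩
  obtain ⟨Q₀, hQ₀⟩ := Sylow.exists_subgroup_card_pow_prime (G := E) p (n := a + 1) (by
    rw [hcard]; exact pow_dvd_pow p (by omega))
  obtain ⟨f1, -⟩ := arith hpp.two_le (hle Q₀) e0 (key a Q₀ hQ₀)
  set M := (univ.filter fun i => Q₀ ≤ (χ i).ker).card - c with hM
  have hMQ : ∀ Q : Subgroup E, Nat.card Q = p ^ (a + 1) → (univ.filter fun i => Q ≤ (χ i).ker).card - c = M := by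
    intro Q hQ
    obtain ⟨f2, -⟩ := arith hpp.two_le (hle Q) e0 (key a Q hQ)
    rw [f1] at f2
    have h3 := Nat.add_left_cancel f2
    exact (Nat.eq_of_mul_eq_mul_right hS h3).symm
  -- a nontrivial character
  have main : ∀ b₀, χ b₀ ≠ 1 → Nat.card H ∣ M ∧ Nat.card H * (univ.filter fun b => χ b = χ b₀).card ≤ M := by
    intro b₀ hb₀
    have hQ : Nat.card (χ b₀).ker = p ^ (a + 1) := by
      have h1 := Weights.card_inf_ker hpp hexp ⊤ (b := a + 1) htop (χ b₀) (fun h => hb₀ ((hker1 b₀).1 h))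
      rwa [top_inf_eq] at h1
    have hMeq : M = (univ.filter fun i => (χ b₀).ker ≤ (χ i).ker ∧ χ i ≠ 1).card := by
      rw [← hMQ _ hQ]
      have h1 : (univ.filter fun i => (χ b₀).ker ≤ (χ i).ker ∧ χ i ≠ 1).card + c =
          (univ.filter fun i => (χ b₀).ker ≤ (χ i).ker).card := by
        rw [hc, ← Finset.card_union_of_disjoint]
        · congr 1
          ext i
          simp only [Finset.mem_union, Finset.mem_filter, Finset.mem_univ, true_and]
          constructor
          · rintro (h | h)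
            · exact h.1
            · exact le_top.trans h
          · intro h
            by_cases h2 : χ i = 1
            · exact Or.inr ((hker1 i).2 h2)
            · exact Or.inl ⟨h, h2⟩
        · rw [Finset.disjoint_left]
          intro i hi hi'
          exact (Finset.mem_filter.1 hi).2.2 ((hker1 i).1 (Finset.mem_filter.1 hi').2)
      omega
    let w : (ZMod p)ˣ → ℕ := fun u => (univ.filter fun i => χ i = (χ b₀) ^ (u : ZMod p).val).card
    have hl := char_pow (p := p) (K := K) hexp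
    have hsum : ∑ u, w u = M := by
      have hex : ∀ i, ∃ u : (ZMod p)ˣ, ((χ b₀).ker ≤ (χ i).ker ∧ χ i ≠ 1) → χ i = (χ b₀) ^ (u : ZMod p).val := by
        intro i
        by_cases h : (χ b₀).ker ≤ (χ i).ker ∧ χ i ≠ 1
        · obtain ⟨u, hu⟩ := exists_pow hexp hb₀ h.2 h.1
          exact ⟨u, fun _ => hu⟩
        · exact ⟨1, fun h' => absurd h' h⟩
      choose f hf using hex
      rw [hMeq, Finset.card_eq_sum_card_fiberwise (f := f) (t := univ) (fun _ _ => Finset.mem_coe.2 (Finset.mem_univ _))]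
      refine Finset.sum_congr rfl fun u _ => ?_
      show (univ.filter fun i => χ i = (χ b₀) ^ (u : ZMod p).val).card = _
      congr 1
      ext i
      simp only [Finset.mem_filter, Finset.mem_univ, true_and]
      constructor
      · intro h
        have h1 : (χ b₀).ker ≤ (χ i).ker := by
          intro x hx
          rw [MonoidHom.mem_ker] at hx ⊢
          rw [h, MonoidHom.pow_apply, hx, one_pow]
        have h2 : χ i ≠ 1 := by
          intro h3
          have h4 : (χ b₀) ^ (u : ZMod p).val = (χ b₀) ^ (0 : ZMod p).val := by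
            rw [← h, h3, ZMod.val_zero, hpow_zero]
          exact u.ne_zero (pow_inj hexp hb₀ h4)
        refine ⟨⟨h1, h2⟩, ?_⟩
        apply Units.ext
        apply pow_inj hexp hb₀
        rw [← hf i ⟨h1, h2⟩, h]
      · rintro ⟨h1, rfl⟩
        exact hf i h1
    have hw : ∀ g, ∀ u ∈ H, w (g * u) = w g := by
      intro g u hu
      obtain ⟨s, hs⟩ := hH u hu
      symm
      apply Finset.card_bij (fun i _ => s i)
      · intro i hi
        rw [Finset.mem_filter] at hi ⊢
        refine ⟨Finset.mem_univ _, ?_⟩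
        rw [hs, hi.2, Units.val_mul, pow_val_mul (hl _)]
      · intro i _ j _ hij
        exact s.injective hij
      · intro j hj
        rw [Finset.mem_filter] at hj
        refine ⟨s.symm j, ?_, s.apply_symm_apply j⟩
        rw [Finset.mem_filter]
        refine ⟨Finset.mem_univ _, ?_⟩
        have h1 := hs (s.symm j)
        rw [s.apply_symm_apply, hj.2, Units.val_mul, pow_val_mul (hl _)] at h1
        -- cancel the exponent
        have h2 : ∀ lam mu : E →* Kˣ, lam ^ (u : ZMod p).val = mu ^ (u : ZMod p).val → lam = mu := by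
          intro lam mu h3
          have h4 := congrArg (fun z => z ^ ((u⁻¹ : (ZMod p)ˣ) : ZMod p).val) h3
          rw [← pow_val_mul (hl _), ← pow_val_mul (hl _), ← Units.val_mul, mul_inv_cancel, Units.val_one] at h4
          have h5 : Fact (1 < p) := ⟨hpp.one_lt⟩
          rwa [ZMod.val_one, hpow_one, hpow_one] at h4
        exact (h2 _ _ h1).symm
    obtain ⟨g1, g2⟩ := card_dvd_sum H w hw
    rw [hsum] at g1 g2
    refine ⟨g1, ?_⟩
    have h3 := g2 1
    have h4 : w 1 = (univ.filter fun b => χ b = χ b₀).card := by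
      show (univ.filter fun i => χ i = (χ b₀) ^ ((1 : (ZMod p)ˣ) : ZMod p).val).card = _
      have h5 : Fact (1 < p) := ⟨hpp.one_lt⟩
      rw [Units.val_one, ZMod.val_one, hpow_one]
    rwa [h4] at h3
  refine ⟨c, M, ?_, f1, ?_, ?_⟩
  · rw [hc, Nat.card_eq_fintype_card, Fintype.card_subtype]
    congr 1
    ext i
    simp only [Finset.mem_filter, Finset.mem_univ, true_and]
    exact hker1 i
  · by_cases hex : ∃ b₀, χ b₀ ≠ 1
    · obtain ⟨b₀, hb₀⟩ := hex
      exact (main b₀ hb₀).1
    · push Not at hex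
      have h1 : c = Fintype.card Φ := by
        rw [hc, Finset.filter_true_of_mem (fun i _ => (hker1 i).2 (hex i)), Finset.card_univ]
      have h2 : M = 0 := by
        rw [h1] at f1
        have h3 : M * ∑ i ∈ range (a + 2), p ^ i = 0 := by omega
        exact (Nat.mul_eq_zero.1 h3).resolve_right hS.ne'
      rw [h2]
      exact dvd_zero _
  · intro b₀ hb₀
    have h1 := (main b₀ hb₀).2
    rw [Nat.card_eq_fintype_card (α := {b // χ b = χ b₀}), Fintype.card_subtype]
    exact h1

end Cfsg.Agent.H319.One.Comb
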