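import Cfsg.Agent.H319.One.RootC
import Cfsg.Agent.H461.E2.Cent
import Cfsg.Agent.H129.TorusChar
import Cfsg.Agent.H795.Tw

/-!
# The root data of a toral Sylow subgroup (helper319, S4880)

`exists_FD`: `Setup`, torality and `Hyp` give `FD`.
-/

set_option autoImplicit false
set_option linter.unusedSectionVars false

namespace Cfsg.Agent.H319.One.FrameE

open CoxeterSystem Cfsg Cfsg.Lie Cfsg.Lie.ChevalleyDatum
open Cfsg.Agent.ChevalleyStructure Cfsg.Agent.ChevalleyStructure.Elts Cfsg.Agent.ChevalleyStructure.CoxeterGeom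
  Cfsg.Agent.ChevalleyStructure.CoxeterGeomTypes Cfsg.Agent.ChevalleyStructure.NPerm
open Cfsg.Agent.Tits.Roots Cfsg.Agent.Tits.Core Cfsg.Agent.Nodes Cfsg.Agent.Nodes.Reps Cfsg.Agent.Nodes.BNOf
  Cfsg.Agent.Nodes.RGDChev Cfsg.Agent.Nodes.Bruhat
open Cfsg.Agent.KFacts.RgdField Cfsg.Agent.KFacts.RgdChevCoord Cfsg.Agent.BpExc.TorCent Cfsg.Agent.BpExc.TorChev
open Cfsg.Agent.GpExc.Field Cfsg.Agent.BpExc.Tow Cfsg.Agent.BpExc.TowChev Cfsg.Agent.BpExc.Fr
  Cfsg.Agent.BpExc.LangFr Cfsg.Agent.H795.SetCent Cfsg.Agent.H795.Toral Cfsg.Agent.H795.Core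
  Cfsg.Agent.H795.RootConn Cfsg.Agent.H795.SetTor Cfsg.Agent.H129.TorusChar Cfsg.Agent.H795.Reduce

universe u v

variable {D : ChevalleyDatum} {l : ℕ} {M : CoxeterMatrix (Fin l)} (hp : IsType D l M)
  {k : Type u} [Field k] [IsAlgClosed k] (hk : LocFin k) {r : ℕ} [Fact r.Prime] [CharP k r]
  {G : Type v} [Group G] [Finite G] {p e n : ℕ} [hpp : Fact p.Prime] {f : G →* ↥(D.group k)}
  {σ : MulAut ↥(D.group k)} {g : (Fin l → ℤ) ≃+ (Fin l → ℤ)}

include hk in
/-- **The root data.** -/
theorem exists_FD (h : Setup hp p r e f σ g) (hpr : p ≠ r) (htor : Tor p f) (hyp : Hyp p n G) :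
    ∃ (w : M.Group) (E : Type v) (_ : CommGroup E) (X : (Fin l → ℤ) → (E →* kˣ)) (Z : ℕ),
      RootC.FD M.toCoxeterSystem hp.isCartan p (r ^ e) n Z X (g.trans (repAut M.toCoxeterSystem hp.isCartan w)) := by
  classical
  obtain ⟨S⟩ : Nonempty (Sylow p G) := inferInstance
  have hcomm : ∀ a ∈ (S : Subgroup G), ∀ b ∈ (S : Subgroup G), a * b = b * a := hyp.comm S S.2
  have hS : IsMulCommutative (S : Subgroup G) := ⟨⟨fun a b => Subtype.ext (hcomm a a.2 b b.2)⟩⟩
  obtain ⟨z, hz⟩ := htor S hS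
  obtain ⟨y, a, w, h1, h2, h3, h4, -⟩ := exists_frame hp hk r h.inj h.e_pos h.frob h.fr h.fix (p := p) h.p_mem S
    ⟨z⁻¹, fun x hx => by rw [inv_inv]; exact hz x hx⟩
  let cg : CommGroup ↥(S : Subgroup G) :=
    { (inferInstance : Group ↥(S : Subgroup G)) with
      mul_comm := fun a b => Subtype.ext (hcomm a a.2 b b.2) }
  let F : ↥(S : Subgroup G) → ↥(D.group k) := fun x => cf f y a x
  have hF : ∀ x, F x ∈ TT D k := fun x => h1 x x.2
  have hF1 : F 1 = 1 := map_one (cf f y a)
  have hFm : ∀ x x', F (x * x') = F x * F x' := fun x x' => map_mul (cf f y a) _ _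
  let X : (Fin l → ℤ) → (↥(S : Subgroup G) →* kˣ) := fun b =>
    { toFun := fun x => Units.mk0 (cX hp (F x) b) ((isMC_cX hp (hF x)).ne_zero b)
      map_one' := by
        apply Units.ext
        rw [Units.val_mk0, hF1, cX_one]
        rfl
      map_mul' := fun x x' => by
        apply Units.ext
        rw [Units.val_mk0, hFm, cX_mul hp (hF x) (hF x')]
        rfl }
  have hX : ∀ b x, ((X b x : kˣ) : k) = cX hp (F x) b := fun b x => rfl
  have hX1 : ∀ b x, X b x = 1 ↔ cX hp (F x) b = 1 := by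
    intro b x
    rw [← hX]
    exact Units.val_eq_one.symm
  have hexp : ∀ x : ↥(S : Subgroup G), x ^ p = 1 := by
    intro x
    obtain ⟨j, hj⟩ := S.2 x
    exact Subtype.ext (hyp.exp (x : G) j (congrArg Subtype.val hj))
  have hord : ∀ x : ↥(S : Subgroup G), x ≠ 1 → orderOf (x : G) = p := fun x hx =>
    hyp.order_of_mem S.2 x.2 fun h5 => hx (Subtype.ext h5)
  have hset : ∀ x, {b | IsRoot M.toCoxeterSystem hp.isCartan b ∧ X b x = 1} =
      {b | IsRoot M.toCoxeterSystem hp.isCartan b ∧ ch hp b (F x) = 1} := by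
    intro x
    ext b
    constructor
    · rintro ⟨hb, hbx⟩
      refine ⟨hb, ?_⟩
      rw [← cX_root hp M.toCoxeterSystem (hF x) hb]
      exact (hX1 b x).1 hbx
    · rintro ⟨hb, hbx⟩
      refine ⟨hb, (hX1 b x).2 ?_⟩
      rw [cX_root hp M.toCoxeterSystem (hF x) hb]
      exact hbx
  have hcf : ∀ x : ↥(S : Subgroup G), ((f a)⁻¹ * y)⁻¹ * f x * ((f a)⁻¹ * y) = F x := by
    intro x
    show _ = cf f y a x
    rw [cf_apply, map_mul, map_mul, map_inv]
    group
  obtain ⟨x0, hx0⟩ : ∃ x : ↥(S : Subgroup G), x ≠ 1 := by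
    have h5 : 1 < Nat.card ↥(S : Subgroup G) := by
      rw [hyp.card S]
      exact Nat.one_lt_pow (by have := hyp.two; omega) hpp.out.one_lt
    have : Nontrivial ↥(S : Subgroup G) := Finite.one_lt_card_iff_nontrivial.1 h5
    exact exists_ne 1
  refine ⟨w, ↥(S : Subgroup G), cg, X, {b | IsRoot M.toCoxeterSystem hp.isCartan b ∧ X b x0 = 1}.ncard, ?_⟩
  exact
    { exp := hexp
      card := hyp.card S
      add := fun b c x => by
        apply Units.ext
        rw [Units.val_mul, hX, hX, hX]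
        exact (isMC_cX hp (hF x)).add b c
      root := h4.root
      act := fun b x => by
        apply Units.ext
        rw [Units.val_pow_eq_pow_val, hX, hX]
        have h5 := cX_sigma hp M.toCoxeterSystem h3 h4 (hF x) b
        have h6 : ct σ y (F x) = F x := h2 x
        rw [h6] at h5
        exact h5
      sep := fun x hx => by
        by_contra hcon
        push Not at hcon
        apply hx
        have h5 : F x = 1 := by
          refine cX_inj hp (hF x) (one_mem _) fun i => ?_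
          rw [cX_one]
          exact (hX1 _ x).1 (hcon _ (isRoot_sr _ _ i))
        have h6 : cf f y a (x : G) = cf f y a 1 := by
          rw [map_one]
          exact h5
        exact Subtype.ext (cf_injective h.inj y a h6)
      cst := fun x hx => by
        rw [hset, hset]
        exact Cfsg.Agent.H461.E2.Cent.ncard_eq hk h hpp.out hpr hyp.one (hord x hx) (hord x0 hx0) (hcf x) (hF x)
          (hcf x0) (hF x0) }

end Cfsg.Agent.H319.One.FrameE
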