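import Cfsg.Agent.H319.One.Chk
import Cfsg.Agent.H319.One.FrameE
import Cfsg.Agent.OrdDiv.Main
import Cfsg.Agent.S1082
import Cfsg.Agent.S0293

/-!
# The rows of the exceptional groups in cross characteristic (helper319, S4880)

`g2_false`, `d4_false`, `td4_false`, `e6_false`, `te6_false`, `e7_false`, `f4_row` (`p = 7`), `e8_row` (`p = 11`).
-/

set_option autoImplicit false
set_option linter.unusedSectionVars false

namespace Cfsg.Agent.H319.One.ExcRows

open CoxeterSystem Cfsg Cfsg.Lie Cfsg.Lie.ChevalleyDatum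
open Cfsg.Agent.ChevalleyStructure Cfsg.Agent.ChevalleyStructure.Elts Cfsg.Agent.ChevalleyStructure.CoxeterGeom
  Cfsg.Agent.ChevalleyStructure.CoxeterGeomTypes Cfsg.Agent.ChevalleyStructure.NPerm
open Cfsg.Agent.Tits.Roots Cfsg.Agent.Tits.Core Cfsg.Agent.Nodes Cfsg.Agent.Nodes.Reps Cfsg.Agent.Nodes.BNOf
  Cfsg.Agent.Nodes.RGDChev Cfsg.Agent.Nodes.Bruhat Cfsg.Agent.Nodes.Coroot
open Cfsg.Agent.KFacts.RgdField Cfsg.Agent.KFacts.RgdChevCoord Cfsg.Agent.BpExc.TorCent Cfsg.Agent.BpExc.TorChev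
open Cfsg.Agent.GpExc.Field Cfsg.Agent.BpExc.Tow Cfsg.Agent.BpExc.TowChev Cfsg.Agent.BpExc.Fr
  Cfsg.Agent.BpExc.LangFr Cfsg.Agent.H795.SetCent Cfsg.Agent.H795.Toral Cfsg.Agent.H795.Core
  Cfsg.Agent.H795.RootConn Cfsg.Agent.H795.SetTor Cfsg.Agent.H129.TorusChar Cfsg.Agent.H129.TorusUntw
  Cfsg.Agent.H795.Untw Cfsg.Agent.H795.RowsA Cfsg.Agent.BpExc Cfsg.Agent.BpExc.RowsUntw Cfsg.Agent.H720.TwFr
  Cfsg.Agent.H795.Tw

universe u v

section

variable {D : ChevalleyDatum} {l : ℕ} {M : CoxeterMatrix (Fin l)} (hp : IsType D l M) {p n : ℕ} [hpp : Fact p.Prime]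

/-- The number of the roots. -/
theorem ncard_isRoot {W : Type*} [Group W] (cs : CoxeterSystem M W) :
    {a | IsRoot cs hp.isCartan a}.ncard = D.nroots := by
  have h1 : {a | IsRoot cs hp.isCartan a} = (fun r => vec D l r) '' ((Finset.range D.nroots : Finset ℕ) : Set ℕ) := by
    ext x
    simp only [Set.mem_image, Finset.mem_coe, Finset.mem_range]
    constructor
    · intro hx
      obtain ⟨r, hr, rfl⟩ := (isRoot_iff hp cs x).1 hx
      exact ⟨r, hr, rfl⟩
    · rintro ⟨r, hr, rfl⟩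
      exact isRoot_vec hp cs hr
  rw [h1, Set.InjOn.ncard_image, Set.ncard_coe_finset, Finset.card_range]
  intro r hr s hs e
  exact vec_inj hp (Finset.mem_range.1 hr) (Finset.mem_range.1 hs) e

/-- The root data of the untwisted groups. -/
theorem untw {F : Type u} [Field F] [Fintype F] (hpF : (p : F) ≠ 0)
    {d : ℕ} {B : Fin l → Fin l → ℤ}
    (hB : InvC D l d B) (hd : d ≠ 0) (hd1 : d = 1 ∨ d.Prime) (hpd : ¬ p ∣ d) (hW : ¬ p ^ 2 ∣ Nat.card M.Group)
    (hT : Tors M.toCoxeterSystem hp.isCartan p) (hyp : Hyp p n ↥(D.group F)) :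
    ∃ (k : Type u) (_ : Field k) (w : M.Group) (E : Type u) (_ : CommGroup E) (X : (Fin l → ℤ) → (E →* kˣ)) (Z : ℕ),
      RootC.FD M.toCoxeterSystem hp.isCartan p (Fintype.card F) n Z X (repAut M.toCoxeterSystem hp.isCartan w) ∧
      ((Fintype.card F : ℕ) : ZMod p) ≠ 0 := by
  obtain ⟨r, e, hr, hrF, hrk, he, hq, hk⟩ := exists_closure (F := F) rfl
  have hpr : p ≠ r := by
    rintro rfl
    exact hpF (CharP.cast_eq_zero F p)
  have hset := setup_untw hp hk (algebraMap F (AlgebraicClosure F)) he hq hB hd hd1 (p := p) hpd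
  have hGf : Finite ↥(D.group F) := inferInstance
  have htor := tor_of hp hk hpr hW hT (emb hp.inList (algebraMap F (AlgebraicClosure F)))
  obtain ⟨w, E, i1, X, Z, h⟩ := FrameE.exists_FD hp hk hset hpr htor hyp
  refine ⟨AlgebraicClosure F, inferInstance, w, E, i1, X, Z, ?_, ?_⟩
  · rw [hq]
    exact h
  · rw [hq, Nat.cast_pow]
    apply pow_ne_zero
    intro h0
    rw [ZMod.natCast_eq_zero_iff] at h0
    exact hpr ((Nat.prime_dvd_prime_iff_eq hpp.out Fact.out).1 h0)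

end

/-! ### divisibility -/

section

variable {p n : ℕ} [hpp : Fact p.Prime]

theorem dvd_sub {q k : ℕ} (hq : 1 ≤ q) (h : orderOf (q : ZMod p) ∣ k) : p ∣ q ^ k - 1 := by
  have h1 := orderOf_dvd_iff_pow_eq_one.1 h
  rw [← ZMod.natCast_eq_zero_iff, Nat.cast_sub (Nat.one_le_pow _ _ hq), Nat.cast_pow, h1, Nat.cast_one, sub_self]

theorem le_of_coprime_mul {S : Type*} [Group S] [Finite S] (h : Hyp p n S) {c N m : ℕ} (hc : c * Nat.card S = N)
    (hpc : ¬ p ∣ c) (hm : p ^ m ∣ N) : m ≤ n := by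
  apply h.le_of_dvd
  rw [← hc] at hm
  exact Nat.Coprime.dvd_of_dvd_mul_left (Nat.Coprime.pow_left m ((Nat.Prime.coprime_iff_not_dvd hpp.out).2 hpc)) hm

theorem four_dvd {a b c d N : ℕ} (ha : p ∣ a) (hb : p ∣ b) (hc : p ∣ c) (hd : p ∣ d) (hN : a * b * c * d ∣ N) :
    p ^ 4 ∣ N := by
  have h1 := mul_dvd_mul (mul_dvd_mul (mul_dvd_mul ha hb) hc) hd
  have h2 : p ^ 4 = p * p * p * p := by ring
  rw [h2]
  exact h1.trans hN

theorem three_dvd {a b c N : ℕ} (ha : p ∣ a) (hb : p ∣ b) (hc : p ∣ c) (hN : a * b * c ∣ N) : p ^ 3 ∣ N := by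
  have h1 := mul_dvd_mul (mul_dvd_mul ha hb) hc
  have h2 : p ^ 3 = p * p * p := by ring
  rw [h2]
  exact h1.trans hN

theorem not_dvd_gcd3 (h5 : 5 ≤ p) (a : ℕ) : ¬ p ∣ Nat.gcd 3 a := fun h => by
  have := Nat.le_of_dvd (by norm_num) (h.trans (Nat.gcd_dvd_left _ _))
  omega

theorem not_dvd_gcd2 (h5 : 5 ≤ p) (a : ℕ) : ¬ p ∣ Nat.gcd 2 a := fun h => by
  have := Nat.le_of_dvd (by norm_num) (h.trans (Nat.gcd_dvd_left _ _))
  omega

end

variable {F : Type} [Field F] [Fintype F] {p n : ℕ} [hpp : Fact p.Prime]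

theorem g2_false (hpF : (p : F) ≠ 0) (h : Hyp p n ↥(chevG2.group F)) : False := by
  have := finW g2T
  have h5 := h.five
  have hW := not_dvd_12 hpp.out h5
  rw [← card_G2] at hW
  obtain ⟨k, _, w, E, _, X, Z, D, hq⟩ := untw g2T hpF invC_G2 one_ne_zero (Or.inl rfl)
    (not_dvd_small h5 one_ne_zero (by norm_num)) (fun h1 => hW ((dvd_pow_self p two_ne_zero).trans h1))
    (tors_of_not_dvd hW) h
  have h1 := D.list h5 h.two h.three hq (H795.IrrTypes.g2 g2T) (ncard_isRoot g2T _) (by decide) Num.c12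
  simp at h1

theorem one_le_card : 1 ≤ Fintype.card F := Fintype.card_pos

/-! ### `F₄` -/

theorem f4_row (T : OrdDiv.OrderTable.{0}) (hpF : (p : F) ≠ 0) (h : Hyp p n ↥(chevF4.group F)) :
    p = 7 ∧ n = 2 ∧ (orderOf ((Fintype.card F : ℕ) : ZMod p) = 3 ∨ orderOf ((Fintype.card F : ℕ) : ZMod p) = 6) := by
  have := finW f4T
  have h5 := h.five
  have hW := not_dvd_1152 hpp.out h5
  rw [← card_F4] at hW
  obtain ⟨k, _, w, E, _, X, Z, D, hq⟩ := untw f4T hpF invC_F4 one_ne_zero (Or.inl rfl)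
    (not_dvd_small h5 one_ne_zero (by norm_num)) (fun h1 => hW ((dvd_pow_self p two_ne_zero).trans h1))
    (tors_of_not_dvd hW) h
  have h1 := D.list h5 h.two h.three hq (H795.IrrTypes.f4 f4T) (ncard_isRoot f4T _) (by decide) Num.c48
  simp only [Bool.or_eq_true, Bool.and_eq_true, beq_iff_eq, decide_eq_true_eq] at h1
  rcases h1 with ⟨hd, hn⟩ | ⟨⟨h1, h2⟩, h3⟩
  · exfalso
    have hd2 : orderOf ((Fintype.card F : ℕ) : ZMod p) ∣ 2 := by
      rcases hd with hd | hd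
      · rw [hd]; exact one_dvd _
      · rw [hd]
    have hs : ∀ k, 2 ∣ k → p ∣ Fintype.card F ^ k - 1 := fun k hk => dvd_sub one_le_card (hd2.trans hk)
    have hcard := T.f4 F _ rfl
    rw [← one_mul (Nat.card _)] at hcard
    have h4 : 4 ≤ n := le_of_coprime_mul h hcard hpp.out.not_dvd_one
      (four_dvd (hs 2 (by norm_num)) (hs 6 (by norm_num)) (hs 8 (by norm_num)) (hs 12 (by norm_num))
        ⟨Fintype.card F ^ 24, by ring⟩)
    omega
  · exact ⟨h1, h3, h2⟩

/-! ### `D₄` -/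

theorem d4_false (hpF : (p : F) ≠ 0) (h : Hyp p n ↥(chevD4.group F)) : False := by
  have := finW hp4
  have h5 := h.five
  have hW := not_dvd_192 hpp.out h5
  rw [← card_D4] at hW
  obtain ⟨k, _, w, E, _, X, Z, D, hq⟩ := untw hp4 hpF invC_D4 two_ne_zero (Or.inr Nat.prime_two)
    (not_dvd_small h5 two_ne_zero (by norm_num)) (fun h1 => hW ((dvd_pow_self p two_ne_zero).trans h1))
    (tors_of_not_dvd hW) h
  have h1 := D.list h5 h.two h.three hq (H795.IrrTypes.d4 hp4) (ncard_isRoot hp4 _) (by decide) Num.c24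
  simp only [Bool.or_eq_true, Bool.and_eq_true, beq_iff_eq] at h1
  obtain ⟨⟨hd, h1⟩, h2⟩ := h1
  have hd2 : orderOf ((Fintype.card F : ℕ) : ZMod p) ∣ 2 := by
      rcases hd with hd | hd
      · rw [hd]; exact one_dvd _
      · rw [hd]
  have hs : ∀ k, 2 ∣ k → p ∣ Fintype.card F ^ k - 1 := fun k hk => dvd_sub one_le_card (hd2.trans hk)
  obtain ⟨e⟩ : Nonempty (↥(chevD4.group F) ≃* POmega F (quadFormPlus 4 F)) := S1082.result
  have hcard := S0293.result (F := F) rfl 4 le_rfl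
  rw [← Nat.card_congr e.toEquiv] at hcard
  have h4 : 4 ≤ n := le_of_coprime_mul h hcard (fun h6 => by
      have := Nat.le_of_dvd (by norm_num) (h6.trans (Nat.gcd_dvd_left _ _))
      omega)
    (four_dvd (hs 4 (by norm_num)) (hs 2 (by norm_num)) (hs 4 (by norm_num)) (hs 6 (by norm_num))
        ⟨Fintype.card F ^ 12, by
          rw [Finset.prod_range_succ, Finset.prod_range_succ, Finset.prod_range_succ, Finset.prod_range_zero]
          norm_num
          ring⟩)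
  omega

/-! ### `E₆`, `²E₆` -/

theorem ext_sr {l : ℕ} (f g : (Fin l → ℤ) →+ (Fin l → ℤ)) (h : ∀ i, f (sr i) = g (sr i)) (x : Fin l → ℤ) :
    f x = g x := by
  rw [eq_sum_sr' x, map_sum, map_sum]
  refine Finset.sum_congr rfl fun i _ => ?_
  rw [map_zsmul, map_zsmul, h]

/-- The common end for `E₆` and `²E₆`. -/
theorem e6_end {q Z : ℕ} {K : Type*} [Field K] {E : Type*} [CommGroup E] {X : (Fin 6 → ℤ) → (E →* Kˣ)}
    {w : CoxeterMatrix.E₆.Group} {g : (Fin 6 → ℤ) ≃+ (Fin 6 → ℤ)} {s : ℤ} (hs : s * s = 1)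
    (hg : g ![1, 0, -1, 0, 1, -1] = s • ![1, 0, -1, 0, 1, -1])
    (D : RootC.FD CoxeterMatrix.E₆.toCoxeterSystem hp6.isCartan p q n Z X
      (g.trans (repAut CoxeterMatrix.E₆.toCoxeterSystem hp6.isCartan w)))
    (hp17 : p = 17) (hd : orderOf (q : ZMod p) = 4) (hn : n = 2) : False := by
  have := finW hp6
  have hq : (q : ZMod p) ≠ 0 := by
    intro h0
    rw [h0] at hd
    have h1 : (0 : ZMod p) ^ 4 = 1 := by rw [← hd]; exact pow_orderOf_eq_one _
    rw [zero_pow (by norm_num)] at h1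
    exact zero_ne_one h1
  have hN := ncard_isRoot hp6 CoxeterMatrix.E₆.toCoxeterSystem
  have hN' : chevE6.nroots = 72 := by decide
  rw [hN'] at hN
  have hi : ∀ a b, IsRoot CoxeterMatrix.E₆.toCoxeterSystem hp6.isCartan a →
      IsRoot CoxeterMatrix.E₆.toCoxeterSystem hp6.isCartan b → X a = X b → a = b := by
    rcases D.cases (by omega) (by omega) hq (H795.IrrTypes.e6 hp6) hN rfl with ⟨-, h1⟩ | ⟨m, h1, -, h2, -⟩
    · exact h1
    · exfalso
      rw [hd, hp17, hn] at *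
      have h3 : Nat.lcm 2 4 = 4 := by decide
      rw [h3] at h1
      have h4 : ∑ i ∈ Finset.range 2, 17 ^ i = 18 := by decide
      rw [h4] at h2
      omega
  have hqq : (q : ZMod p) * q = -1 := by
    have h1 : ((q : ZMod p) * q) * ((q : ZMod p) * q) = 1 := by
      have h2 := pow_orderOf_eq_one (q : ZMod p)
      rw [hd] at h2
      calc ((q : ZMod p) * q) * ((q : ZMod p) * q) = (q : ZMod p) ^ 4 := by ring
        _ = 1 := h2
    rcases mul_self_eq_one_iff.1 h1 with h2 | h2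
    · exfalso
      have h3 : orderOf (q : ZMod p) ∣ 2 := orderOf_dvd_of_pow_eq_one (by rw [pow_two]; exact h2)
      rw [hd] at h3
      exact absurd h3 (by norm_num)
    · exact h2
  set θ := g.trans (repAut CoxeterMatrix.E₆.toCoxeterSystem hp6.isCartan w) with hθ
  have hneg : ∀ x : Fin 6 → ℤ, θ (θ x) = -x := fun x =>
    ext_sr (θ.toAddMonoidHom.comp θ.toAddMonoidHom) (-AddMonoidHom.id _)
      (fun i => D.theta_sq hi hqq (isRoot_sr _ _ i)) x
  have hrad : ∀ i, (3 : ℤ) ∣ pairing (cartanOf chevE6 6) i ![1, 0, -1, 0, 1, -1] := by decide +kernel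
  have h1 : ∃ u : Fin 6 → ℤ, θ ![1, 0, -1, 0, 1, -1] = s • ![1, 0, -1, 0, 1, -1] + (3 : ℤ) • u := by
    have h2 := RootC.rad CoxeterMatrix.E₆.toCoxeterSystem hp6.isCartan hrad w
    choose u hu using h2
    refine ⟨s • u, ?_⟩
    show rep _ _ w (g ![1, 0, -1, 0, 1, -1]) = _
    rw [hg, map_smul]
    have h3 : rep CoxeterMatrix.E₆.toCoxeterSystem hp6.isCartan w ![1, 0, -1, 0, 1, -1] =
        ![1, 0, -1, 0, 1, -1] + (3 : ℤ) • u := by
      funext j
      have := hu j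
      rw [Pi.sub_apply] at this
      rw [Pi.add_apply, Pi.smul_apply, smul_eq_mul]
      linarith
    rw [h3, smul_add, smul_comm]
  obtain ⟨u, hu⟩ := h1
  have h2 := hneg ![1, 0, -1, 0, 1, -1]
  rw [hu, map_add, map_zsmul, map_zsmul, hu, smul_add, smul_smul, hs, one_smul] at h2
  have h3 := congrFun h2 0
  simp only [Pi.add_apply, Pi.smul_apply, Pi.neg_apply, smul_eq_mul, Matrix.cons_val_zero] at h3
  have h4 : s * (3 * u 0) = 3 * (s * u 0) := by ring
  rw [h4] at h3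
  omega

theorem e6_false (T : OrdDiv.OrderTable.{0}) (hpF : (p : F) ≠ 0) (h : Hyp p n ↥(chevE6.group F)) : False := by
  have := finW hp6
  have h5 := h.five
  obtain ⟨hW, hT⟩ := torsE6 hp6 hpp.out h5
  obtain ⟨k, _, w, E, _, X, Z, D, hq⟩ := untw hp6 hpF invC_E6 three_ne_zero (Or.inr Nat.prime_three)
    (not_dvd_small h5 three_ne_zero (by norm_num)) hW hT h
  have h1 := D.list h5 h.two h.three hq (H795.IrrTypes.e6 hp6) (ncard_isRoot hp6 _) (by decide) Num.c72
  simp only [Bool.or_eq_true, Bool.and_eq_true, beq_iff_eq, decide_eq_true_eq] at h1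
  rcases h1 with ⟨hd, hn⟩ | ⟨⟨h1, h2⟩, h3⟩
  · have hd2 : orderOf ((Fintype.card F : ℕ) : ZMod p) ∣ 2 := by
      rcases hd with hd | hd
      · rw [hd]; exact one_dvd _
      · rw [hd]
    have hs : ∀ k, 2 ∣ k → p ∣ Fintype.card F ^ k - 1 := fun k hk => dvd_sub one_le_card (hd2.trans hk)
    have h4 : 4 ≤ n := le_of_coprime_mul h (T.e6 F _ rfl) (not_dvd_gcd3 h5 _)
      (four_dvd (hs 2 (by norm_num)) (hs 6 (by norm_num)) (hs 8 (by norm_num)) (hs 12 (by norm_num))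
        ⟨Fintype.card F ^ 36 * (Fintype.card F ^ 5 - 1) * (Fintype.card F ^ 9 - 1), by ring⟩)
    omega
  · refine e6_end (g := AddEquiv.refl _) (w := w) (s := 1) (by norm_num) (by rw [one_smul]; rfl) D h1 h2 h3

/-! ### `E₇` -/

theorem e7_count : ∀ i : Fin 7, ((Finset.range 126).filter
    (fun r => pairing (cartanOf chevE7 7) i (vec chevE7 7 r) ≠ 0)).card = 66 := by decide +kernel

theorem e7_nonorth (i : Fin 7) :
    {a | IsRoot CoxeterMatrix.E₇.toCoxeterSystem e7T.isCartan a ∧ pairing (cartanOf chevE7 7) i a ≠ 0}.ncard = 66 := by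
  have h1 : {a | IsRoot CoxeterMatrix.E₇.toCoxeterSystem e7T.isCartan a ∧ pairing (cartanOf chevE7 7) i a ≠ 0} =
      (fun r => vec chevE7 7 r) '' (((Finset.range 126).filter
        (fun r => pairing (cartanOf chevE7 7) i (vec chevE7 7 r) ≠ 0) : Finset ℕ) : Set ℕ) := by
    ext x
    simp only [Set.mem_image, Finset.mem_coe, Finset.mem_filter, Finset.mem_range]
    constructor
    · rintro ⟨hx, hc⟩
      obtain ⟨r, hr, rfl⟩ := (isRoot_iff e7T CoxeterMatrix.E₇.toCoxeterSystem x).1 hx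
      exact ⟨r, ⟨hr, hc⟩, rfl⟩
    · rintro ⟨r, ⟨hr, hc⟩, rfl⟩
      exact ⟨isRoot_vec e7T CoxeterMatrix.E₇.toCoxeterSystem hr, hc⟩
  rw [h1, Set.InjOn.ncard_image, Set.ncard_coe_finset, e7_count]
  intro r hr s hs e
  exact vec_inj e7T (Finset.mem_range.1 (Finset.mem_filter.1 hr).1) (Finset.mem_range.1 (Finset.mem_filter.1 hs).1) e

theorem e7_false (T : OrdDiv.OrderTable.{0}) (hpF : (p : F) ≠ 0) (h : Hyp p n ↥(chevE7.group F)) : False := by
  have := finW e7T
  have h5 := h.five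
  obtain ⟨hW, hT⟩ := torsE7 e7T hpp.out h5
  obtain ⟨k, _, w, E, _, X, Z, D, hq⟩ := untw e7T hpF invC_E7 two_ne_zero (Or.inr Nat.prime_two)
    (not_dvd_small h5 two_ne_zero (by norm_num)) hW hT h
  have hN := ncard_isRoot e7T CoxeterMatrix.E₇.toCoxeterSystem
  have hN' : chevE7.nroots = 126 := by decide
  rw [hN'] at hN
  have h1 := D.list h5 h.two h.three hq (H795.IrrTypes.e7 e7T) hN (by decide) Num.c126
  simp only [Bool.or_eq_true, Bool.and_eq_true, beq_iff_eq, decide_eq_true_eq] at h1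
  have hcard := T.e7 F _ rfl
  rcases h1 with (⟨hd, hn⟩ | ⟨hd, hn⟩) | ⟨⟨h1, h2⟩, h3⟩
  · have hd2 : orderOf ((Fintype.card F : ℕ) : ZMod p) ∣ 2 := by
      rcases hd with hd | hd
      · rw [hd]; exact one_dvd _
      · rw [hd]
    have hs : ∀ k, 2 ∣ k → p ∣ Fintype.card F ^ k - 1 := fun k hk => dvd_sub one_le_card (hd2.trans hk)
    have h4 : 4 ≤ n := le_of_coprime_mul h hcard (not_dvd_gcd2 h5 _)
      (four_dvd (hs 2 (by norm_num)) (hs 6 (by norm_num)) (hs 8 (by norm_num)) (hs 10 (by norm_num))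
        ⟨Fintype.card F ^ 63 * (Fintype.card F ^ 12 - 1) * (Fintype.card F ^ 14 - 1) * (Fintype.card F ^ 18 - 1),
          by ring⟩)
    omega
  · have hd2 : orderOf ((Fintype.card F : ℕ) : ZMod p) ∣ 6 := by
      rcases hd with hd | hd
      · rw [hd]; norm_num
      · rw [hd]
    have hs : ∀ k, 6 ∣ k → p ∣ Fintype.card F ^ k - 1 := fun k hk => dvd_sub one_le_card (hd2.trans hk)
    have h4 : 3 ≤ n := le_of_coprime_mul h hcard (not_dvd_gcd2 h5 _)
      (three_dvd (hs 6 (by norm_num)) (hs 12 (by norm_num)) (hs 18 (by norm_num))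
        ⟨Fintype.card F ^ 63 * (Fintype.card F ^ 2 - 1) * (Fintype.card F ^ 8 - 1) * (Fintype.card F ^ 10 - 1) *
          (Fintype.card F ^ 14 - 1), by ring⟩)
    omega
  · rcases D.cases (by omega) h.two hq (H795.IrrTypes.e7 e7T) hN rfl with ⟨h4, -⟩ | ⟨m, h4, h5', h6, h7⟩
    · rw [h2, h3] at h4
      subst h1
      exact absurd h4 (by decide)
    · have h8 : Nat.lcm 2 4 = 4 := by decide
      have h9 : ∑ i ∈ Finset.range 2, p ^ i = 14 := by rw [h1]; decide
      rw [h2, h8] at h4 h5' h7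
      rw [h3, h9] at h6
      have h10 : m = 8 := by omega
      subst h10
      refine D.three_false hN (c := 14) (B := 66) (by omega) (fun b₀ hb₀ hne => ?_)
        (fun y hy => RootC.ncard_nonorth e7_nonorth hy) (by norm_num) (by norm_num)
      have := h7 b₀ hb₀ hne
      omega

/-! ### `E₈` -/

theorem e8_row (T : OrdDiv.OrderTable.{0}) (hpF : (p : F) ≠ 0) (h : Hyp p n ↥(chevE8.group F)) (hp5 : p ≠ 5) :
    p = 11 ∧ n = 2 ∧ (orderOf ((Fintype.card F : ℕ) : ZMod p) = 5 ∨ orderOf ((Fintype.card F : ℕ) : ZMod p) = 10) := by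
  have := finW e8T
  have h5 := h.five
  obtain ⟨hW, hT⟩ := torsE8 e8T hpp.out h5 hp5
  obtain ⟨k, _, w, E, _, X, Z, D, hq⟩ := untw e8T hpF invC_E8 one_ne_zero (Or.inl rfl)
    (not_dvd_small h5 one_ne_zero (by norm_num)) hW hT h
  have h1 := D.list h5 h.two h.three hq (H795.IrrTypes.e8 e8T) (ncard_isRoot e8T _) (by decide) Num.c240
  simp only [Bool.or_eq_true, Bool.and_eq_true, beq_iff_eq, decide_eq_true_eq] at h1
  have hcard := T.e8 F _ rfl
  rw [← one_mul (Nat.card _)] at hcard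
  rcases h1 with ((⟨hd, hn⟩ | ⟨hd, hn⟩) | h1) | ⟨⟨h1, h2⟩, h3⟩
  · exfalso
    have hd2 : orderOf ((Fintype.card F : ℕ) : ZMod p) ∣ 2 := by
      rcases hd with hd | hd
      · rw [hd]; exact one_dvd _
      · rw [hd]
    have hs : ∀ k, 2 ∣ k → p ∣ Fintype.card F ^ k - 1 := fun k hk => dvd_sub one_le_card (hd2.trans hk)
    have h4 : 4 ≤ n := le_of_coprime_mul h hcard hpp.out.not_dvd_one
      (four_dvd (hs 2 (by norm_num)) (hs 8 (by norm_num)) (hs 12 (by norm_num)) (hs 14 (by norm_num))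
        ⟨Fintype.card F ^ 120 * (Fintype.card F ^ 18 - 1) * (Fintype.card F ^ 20 - 1) * (Fintype.card F ^ 24 - 1) *
          (Fintype.card F ^ 30 - 1), by ring⟩)
    omega
  · exfalso
    have hd2 : orderOf ((Fintype.card F : ℕ) : ZMod p) ∣ 12 := by
      rcases hd with (hd | hd) | hd <;> (rw [hd]; norm_num)
    rcases hd with hd | hd
    · have hd6 : orderOf ((Fintype.card F : ℕ) : ZMod p) ∣ 6 := by
        rcases hd with hd | hd
        · rw [hd]; norm_num
        · rw [hd]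
      have hs : ∀ k, 6 ∣ k → p ∣ Fintype.card F ^ k - 1 := fun k hk => dvd_sub one_le_card (hd6.trans hk)
      have h4 : 3 ≤ n := le_of_coprime_mul h hcard hpp.out.not_dvd_one
        (three_dvd (hs 12 (by norm_num)) (hs 18 (by norm_num)) (hs 24 (by norm_num))
          ⟨Fintype.card F ^ 120 * (Fintype.card F ^ 2 - 1) * (Fintype.card F ^ 8 - 1) * (Fintype.card F ^ 14 - 1) *
            (Fintype.card F ^ 20 - 1) * (Fintype.card F ^ 30 - 1), by ring⟩)
      omega
    · have hs : ∀ k, 4 ∣ k → p ∣ Fintype.card F ^ k - 1 := fun k hk => dvd_sub one_le_card (by rw [hd]; exact hk)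
      have h4 : 3 ≤ n := le_of_coprime_mul h hcard hpp.out.not_dvd_one
        (three_dvd (hs 8 (by norm_num)) (hs 12 (by norm_num)) (hs 20 (by norm_num))
          ⟨Fintype.card F ^ 120 * (Fintype.card F ^ 2 - 1) * (Fintype.card F ^ 14 - 1) *
            (Fintype.card F ^ 18 - 1) * (Fintype.card F ^ 24 - 1) * (Fintype.card F ^ 30 - 1), by ring⟩)
      omega
  · exact absurd h1 hp5
  · exact ⟨h1, h3, h2⟩

/-! ### `²E₆` -/

theorem orderOf_pow_prime_ne {q r e : ℕ} [Fact r.Prime] (hpr : p ≠ r) (hq : q = r ^ e) : (q : ZMod p) ≠ 0 := by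
  rw [hq, Nat.cast_pow]
  apply pow_ne_zero
  intro h0
  rw [ZMod.natCast_eq_zero_iff] at h0
  exact hpr ((Nat.prime_dvd_prime_iff_eq hpp.out Fact.out).1 h0)

theorem te6_false (T : OrdDiv.OrderTable.{0}) {q : ℕ} (hpF : (p : F) ≠ 0) (hqq : IsPrimePow q)
    (hF : Fintype.card F = q ^ 2) (h : Hyp p n ↥(twistedE6 F q)) : False := by
  have := finW hp6
  have h5 := h.five
  obtain ⟨r, e, hr, hrF, hrk, hn0, hqe, hk⟩ := exists_closure_q two_ne_zero hqq hF
  have hpr : p ≠ r := by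
    rintro rfl
    exact hpF (CharP.cast_eq_zero F p)
  obtain ⟨hW, hT⟩ := torsE6 hp6 hpp.out h5
  have hq := orderOf_pow_prime_ne (p := p) hpr hqe
  obtain ⟨w, E, _, X, Z, D⟩ := FrameE.exists_FD hp6 hk
    (setup_six (algebraMap F (AlgebraicClosure F)) r hk hn0 hqe hF (by omega)) hpr (tor_of hp6 hk hpr hW hT _) h
  rw [← hqe] at D
  have h1 := D.list h5 h.two h.three hq (H795.IrrTypes.e6 hp6) (ncard_isRoot hp6 _) (by decide) Num.c72
  simp only [Bool.or_eq_true, Bool.and_eq_true, beq_iff_eq, decide_eq_true_eq] at h1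
  rcases h1 with ⟨hd, hn⟩ | ⟨⟨h1, h2⟩, h3⟩
  · have hd2 : orderOf (q : ZMod p) ∣ 2 := by
      rcases hd with hd | hd
      · rw [hd]; exact one_dvd _
      · rw [hd]
    have hs : ∀ k, 2 ∣ k → p ∣ q ^ k - 1 := fun k hk => dvd_sub hqq.one_lt.le (hd2.trans hk)
    have h4 : 4 ≤ n := le_of_coprime_mul h (T.te6 F q hqq hF) (not_dvd_gcd3 h5 _)
      (four_dvd (hs 2 (by norm_num)) (hs 6 (by norm_num)) (hs 8 (by norm_num)) (hs 12 (by norm_num))
        ⟨q ^ 36 * (q ^ 5 + 1) * (q ^ 9 + 1), by ring⟩)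
    omega
  · refine e6_end (w := w) (s := -1) (by norm_num) ?_ D h1 h2 h3
    funext i
    fin_cases i <;> rfl

/-! ### `³D₄` -/

theorem td4_false {q : ℕ} (hpF : (p : F) ≠ 0) (hqq : IsPrimePow q)
    (hF : Fintype.card F = q ^ 3) (h : Hyp p n ↥(twistedD4 F q)) : False := by
  have := finW hp4
  have h5 := h.five
  obtain ⟨r, e, hr, hrF, hrk, hn0, hqe, hk⟩ := exists_closure_q three_ne_zero hqq hF
  have hpr : p ≠ r := by
    rintro rfl
    exact hpF (CharP.cast_eq_zero F p)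
  have hW := not_dvd_192 hpp.out h5
  rw [← card_D4] at hW
  have hq := orderOf_pow_prime_ne (p := p) hpr hqe
  obtain ⟨w, E, _, X, Z, D⟩ := FrameE.exists_FD hp4 hk
    (setup_four (algebraMap F (AlgebraicClosure F)) r (tw4_le hqq hF) hk hn0 hqe hF) hpr
    (tor_of hp4 hk hpr (fun h1 => hW ((dvd_pow_self p two_ne_zero).trans h1)) (tors_of_not_dvd hW) _) h
  rw [← hqe] at D
  have hN := ncard_isRoot hp4 coxeterD4.toCoxeterSystem
  have hN' : chevD4.nroots = 24 := by decide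
  rw [hN'] at hN
  have h1 := D.list h5 h.two h.three hq (H795.IrrTypes.d4 hp4) hN (by decide) Num.c24
  simp only [Bool.or_eq_true, Bool.and_eq_true, beq_iff_eq] at h1
  obtain ⟨⟨hd, h1⟩, h2⟩ := h1
  have hi : ∀ a b, IsRoot coxeterD4.toCoxeterSystem hp4.isCartan a →
      IsRoot coxeterD4.toCoxeterSystem hp4.isCartan b → X a = X b → a = b := by
    rcases D.cases (by omega) h.two hq (H795.IrrTypes.d4 hp4) hN rfl with ⟨-, h1⟩ | ⟨m, h3, -, h4, -⟩
    · exact h1
    · exfalso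
      have h6 : Nat.lcm 2 (orderOf (q : ZMod p)) = 2 := by
        rcases hd with hd | hd <;> (rw [hd]; decide)
      rw [h6] at h3
      have h7 : ∑ i ∈ Finset.range n, p ^ i = 12 := by rw [h1, h2]; decide
      rw [h7] at h4
      omega
  set θ := (permE rho4).trans (repAut coxeterD4.toCoxeterSystem hp4.isCartan w) with hθ
  have hsgn : ∃ s : ℤ, (s = 1 ∨ s = -1) ∧ ∀ x : Fin 4 → ℤ, θ x = s • x := by
    have hq1 : (q : ZMod p) * q = 1 := by
      have h6 : orderOf (q : ZMod p) ∣ 2 := by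
        rcases hd with hd | hd
        · rw [hd]; exact one_dvd _
        · rw [hd]
      rw [← pow_two]
      exact orderOf_dvd_iff_pow_eq_one.1 h6
    rcases mul_self_eq_one_iff.1 hq1 with h6 | h6
    · refine ⟨1, Or.inl rfl, fun x => ?_⟩
      rw [one_smul]
      exact ext_sr θ.toAddMonoidHom (AddMonoidHom.id _) (fun i => D.theta_one hi h6 (isRoot_sr _ _ i)) x
    · refine ⟨-1, Or.inr rfl, fun x => ?_⟩
      rw [neg_one_smul]
      exact ext_sr θ.toAddMonoidHom (-AddMonoidHom.id _) (fun i => D.theta_neg_one hi h6 (isRoot_sr _ _ i)) x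
  obtain ⟨s, hs, hx⟩ := hsgn
  have hrad : ∀ i, (2 : ℤ) ∣ pairing (cartanOf chevD4 4) i (permE rho4 ![1, 0, 1, 0]) := by decide +kernel
  have h3 := RootC.rad coxeterD4.toCoxeterSystem hp4.isCartan hrad w
  have h4 : rep coxeterD4.toCoxeterSystem hp4.isCartan w (permE rho4 ![1, 0, 1, 0]) = s • ![1, 0, 1, 0] := hx ![1, 0, 1, 0]
  rw [h4] at h3
  have h6 := h3 0
  have h7 := h3 2
  have h8 := h3 3
  simp only [Pi.sub_apply, Pi.smul_apply, smul_eq_mul] at h6 h7 h8
  rcases hs with rfl | rfl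
  · revert h6 h7 h8; decide
  · revert h6 h7 h8; decide

end Cfsg.Agent.H319.One.ExcRows
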