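import Cfsg.Agent.H319.One.ExcRows
import Cfsg.Agent.OrdDiv.Table
import Cfsg.Agent.H600.OneAlt
import Cfsg.Agent.H491.One.Psl
import Cfsg.Agent.H267.One.Psp
import Cfsg.Agent.H144.One.PSU
import Cfsg.Agent.H156.One.Orth
import Cfsg.Agent.H488.One.SzRee
import Cfsg.Agent.H447.One.Spor
import Cfsg.Agent.H969.TwF.Row
import Cfsg.Agent.H969.TwF.Eleven
import Cfsg.Agent.H478.Loc.Th
import Cfsg.Agent.H478.Loc.B
import Cfsg.Agent.H478.Loc.M
import Cfsg.Agent.H210.EL.Data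
import Cfsg.Agent.H333.OwnOne

/-!
# S4880, classification half (helper319)

`main`: `S` a known finite simple group with `Hyp p n S` : `Aut S` transitive on the elements of order `p ≥ 5`, the Sylow
`p`-subgroup elementary abelian of order `p ^ n`, `n ≥ 2`, `n ≥ 3` if `p = 5`. Then `S = PSL₂(p ^ n)`, or `p = 7`, `n = 2` and
`Loc 7 3 S`, or `p = 11`, `n = 2` and `Loc 11 5 S`, or `p = 11`, `n = 2` and `S = ²F₄(q)`.
-/

set_option autoImplicit false

namespace Cfsg.Agent.H319.One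

open Cfsg Cfsg.Agent.OrdDiv

universe u

/-- The possibilities. -/
def Outcome (p n : ℕ) (S : Type u) [Group S] : Prop :=
  (∃ (F : Type) (_ : Field F) (_ : Fintype F), Fintype.card F = p ^ n ∧
    Nonempty (S ≃* Matrix.ProjectiveSpecialLinearGroup (Fin 2) F)) ∨
  (p = 7 ∧ n = 2 ∧ Loc 7 3 S) ∨ (p = 11 ∧ n = 2 ∧ Loc 11 5 S) ∨
  (p = 11 ∧ n = 2 ∧ Lie.Iso2F4 S ∧
    ∀ x g : S, orderOf x = 11 → ∀ j : ℕ, (j = 3 ∨ j = 4 ∨ j = 5 ∨ j = 9) → g * x * g⁻¹ ≠ x ^ j)

theorem cast_ne_zero {F : Type*} [Field F] [Fintype F] {p : ℕ} [hp : Fact p.Prime] (h : ¬ p ∣ Fintype.card F) :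
    (p : F) ≠ 0 := by
  intro h0
  apply h
  obtain ⟨r, hr⟩ := CharP.exists F
  obtain ⟨m, hr', hm⟩ := FiniteField.card F r
  rw [CharP.cast_eq_zero_iff F r] at h0
  rw [hm, ← (Nat.prime_dvd_prime_iff_eq hr' hp.out).1 h0]
  exact dvd_pow_self r m.ne_zero

/-- **The classification half of S4880.** -/
theorem main {S : Type u} [Group S] [Finite S] [IsSimpleGroup S] (hk : IsKnownSimple' S)
    (hK0 : ∀ (X : Type) [Group X] [Finite X] [IsSimpleGroup X], IsKnownSimple' X) {p n : ℕ} [hp : Fact p.Prime]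
    (h : Hyp p n S) : Outcome p n S := by
  classical
  have own : IsLieTypeChar p S → Outcome p n S := fun hS => Or.inl (H333.OwnOne.own h hS)
  have spo : ∀ (g : Grp), g ∈ spor.map (fun x => x.1) → Real g S → Outcome p n S := fun g hg hr => by
    obtain ⟨x, hx, rfl⟩ := List.mem_map.1 hg
    rcases H447.One.Spor.row_spor h hx hr with ⟨h1, h2, h3 | h3⟩ | ⟨h1, h2, h3⟩
    · rw [h3] at hr
      exact Or.inr (Or.inl ⟨h1, h2, H478.Loc.loc_isoTh hr⟩)
    · rw [h3] at hr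
      exact Or.inr (Or.inl ⟨h1, h2, H478.Loc.loc_isoB hr⟩)
    · rw [h3] at hr
      exact Or.inr (Or.inr (Or.inl ⟨h1, h2, H478.Loc.loc_isoM OrdDiv.table hK0 hr⟩))
  rcases hk with h' | h' | h' | h' | h' | h' | h' | h' | h' | h'
  · exfalso
    have h1 : (Nat.card S).Prime := h'
    have h2 : p ^ 2 ∣ Nat.card S := (pow_dvd_pow p h.two).trans h.dvd
    have h3 : p ∣ Nat.card S := (dvd_pow_self p two_ne_zero).trans h2
    have h4 := (Nat.prime_dvd_prime_iff_eq hp.out h1).1 h3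
    rw [← h4] at h2
    have h5 := Nat.le_of_dvd hp.out.pos h2
    have h6 := hp.out.two_le
    nlinarith
  · obtain ⟨m, hm, ⟨e⟩⟩ := h'
    exact (H600.OneAlt.row_alt (h.congr e)).elim
  · obtain ⟨F, i1, i2, m, hm, hm2, ⟨e⟩⟩ := h'
    by_cases hpF : p ∣ Fintype.card F
    · exact own (Or.inl ⟨F, i1, i2, H333.OwnOne.charP_of_dvd hpF, m, hm, hm2, ⟨e⟩⟩)
    · exact (H491.One.row_psl hm hpF (h.congr e)).elim
  · obtain ⟨F, i1, i2, m, hm, hm2, ⟨e⟩⟩ := h'
    by_cases hpF : p ∣ Fintype.card F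
    · exact own (Or.inr (Or.inl ⟨F, i1, i2, H333.OwnOne.charP_of_dvd hpF, m, hm, hm2, ⟨e⟩⟩))
    · exact (H267.One.row_psp hm hpF (h.congr e)).elim
  · obtain ⟨F, i1, i2, m, q, hF, hm, hm2, ⟨e⟩⟩ := h'
    by_cases hpF : p ∣ q
    · have hpF' : p ∣ Fintype.card F := by rw [hF]; exact hpF.trans (dvd_pow_self q two_ne_zero)
      exact own (Or.inr (Or.inr (Or.inl ⟨F, i1, i2, H333.OwnOne.charP_of_dvd hpF', m, q, hF, hm, hm2, ⟨e⟩⟩)))
    · exact (H144.One.row_psu hF hm hm2 hpF (h.congr e)).elim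
  · obtain ⟨F, i1, i2, m, hm, ho, ⟨e⟩⟩ := h'
    by_cases hpF : p ∣ Fintype.card F
    · exact own (Or.inr (Or.inr (Or.inr (Or.inl ⟨F, i1, i2, H333.OwnOne.charP_of_dvd hpF, m, hm, ho, ⟨e⟩⟩))))
    · exact (H156.One.row_oodd hm ho hpF (h.congr e)).elim
  · obtain ⟨F, i1, i2, m, hm, ⟨e⟩⟩ := h'
    by_cases hpF : p ∣ Fintype.card F
    · exact own (Or.inr (Or.inr (Or.inr (Or.inr (Or.inl ⟨F, i1, i2, H333.OwnOne.charP_of_dvd hpF, m, hm, ⟨e⟩⟩)))))
    · rcases Nat.lt_or_ge m 5 with h4 | h4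
      · have h5 : m = 4 := by omega
        subst h5
        obtain ⟨e'⟩ : Nonempty (↥(Lie.chevD4.group F) ≃* POmega F (quadFormPlus 4 F)) := S1082.result
        exact (ExcRows.d4_false (cast_ne_zero hpF) (h.congr (e.trans e'.symm))).elim
      · exact (H156.One.row_oplus h4 hpF (h.congr e)).elim
  · obtain ⟨F, i1, i2, m, a, b, hm, hab, ⟨e⟩⟩ := h'
    by_cases hpF : p ∣ Fintype.card F
    · exact own (Or.inr (Or.inr (Or.inr (Or.inr (Or.inr (Or.inl
        ⟨F, i1, i2, H333.OwnOne.charP_of_dvd hpF, m, a, b, hm, hab, ⟨e⟩⟩))))))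
    · exact (H156.One.row_ominus hm hab hpF (h.congr e)).elim
  · rcases h' with h' | h' | h' | h' | h' | h' | h' | h' | h' | h' | h'
    · obtain ⟨F, i1, i2, hq, ⟨e⟩⟩ := h'
      by_cases hpF : p ∣ Fintype.card F
      · exact own (Or.inr (Or.inr (Or.inr (Or.inr (Or.inr (Or.inr (Or.inl
          ⟨F, i1, i2, H333.OwnOne.charP_of_dvd hpF, Or.inl ⟨hq, ⟨e⟩⟩⟩)))))))
      · exact (ExcRows.g2_false (cast_ne_zero hpF) (h.congr e)).elim
    · obtain ⟨F, i1, i2, ⟨e⟩⟩ := h'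
      by_cases hpF : p ∣ Fintype.card F
      · exact own (Or.inr (Or.inr (Or.inr (Or.inr (Or.inr (Or.inr (Or.inl
          ⟨F, i1, i2, H333.OwnOne.charP_of_dvd hpF, Or.inr (Or.inl ⟨e⟩)⟩)))))))
      · obtain ⟨h1, h2, h3⟩ := ExcRows.f4_row OrdDiv.table (cast_ne_zero hpF) (h.congr e)
        subst h1
        exact Or.inr (Or.inl ⟨rfl, h2, (H210.EL.loc_f4 h3).congr e.symm⟩)
    · obtain ⟨F, i1, i2, ⟨e⟩⟩ := h'
      by_cases hpF : p ∣ Fintype.card F
      · exact own (Or.inr (Or.inr (Or.inr (Or.inr (Or.inr (Or.inr (Or.inl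
          ⟨F, i1, i2, H333.OwnOne.charP_of_dvd hpF, Or.inr (Or.inr (Or.inl ⟨e⟩))⟩)))))))
      · exact (ExcRows.e6_false OrdDiv.table (cast_ne_zero hpF) (h.congr e)).elim
    · obtain ⟨F, i1, i2, ⟨e⟩⟩ := h'
      by_cases hpF : p ∣ Fintype.card F
      · exact own (Or.inr (Or.inr (Or.inr (Or.inr (Or.inr (Or.inr (Or.inl
          ⟨F, i1, i2, H333.OwnOne.charP_of_dvd hpF, Or.inr (Or.inr (Or.inr (Or.inl ⟨e⟩)))⟩)))))))
      · exact (ExcRows.e7_false OrdDiv.table (cast_ne_zero hpF) (h.congr e)).elim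
    · obtain ⟨F, i1, i2, ⟨e⟩⟩ := h'
      by_cases hpF : p ∣ Fintype.card F
      · exact own (Or.inr (Or.inr (Or.inr (Or.inr (Or.inr (Or.inr (Or.inl
          ⟨F, i1, i2, H333.OwnOne.charP_of_dvd hpF, Or.inr (Or.inr (Or.inr (Or.inr ⟨e⟩)))⟩)))))))
      · have hpF' := cast_ne_zero hpF
        have h' := h.congr e
        by_cases hp5 : p = 5
        · exfalso
          subst hp5
          have h6 := H795.NotAbRows.e8_five (F := F) (by exact_mod_cast hpF')
          obtain ⟨P⟩ : Nonempty (Sylow 5 ↥(Lie.chevE8.group F)) := inferInstance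
          exact h6 P ⟨⟨fun a b => Subtype.ext (h'.comm P P.2 a a.2 b b.2)⟩⟩
        · obtain ⟨h1, h2, h3⟩ := ExcRows.e8_row OrdDiv.table hpF' h' hp5
          subst h1
          exact Or.inr (Or.inr (Or.inl ⟨rfl, h2, (H210.EL.loc_e8 h3).congr e.symm⟩))
    · obtain ⟨F, i1, i2, q, hq, hF, ⟨e⟩⟩ := h'
      by_cases hpF : p ∣ Fintype.card F
      · exact own (Or.inr (Or.inr (Or.inr (Or.inr (Or.inr (Or.inr (Or.inr (Or.inl
          ⟨F, i1, i2, H333.OwnOne.charP_of_dvd hpF, q, hq, Or.inl ⟨hF, ⟨e⟩⟩⟩))))))))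
      · exact (ExcRows.te6_false OrdDiv.table (cast_ne_zero hpF) hq hF (h.congr e)).elim
    · obtain ⟨F, i1, i2, q, hq, hF, ⟨e⟩⟩ := h'
      by_cases hpF : p ∣ Fintype.card F
      · exact own (Or.inr (Or.inr (Or.inr (Or.inr (Or.inr (Or.inr (Or.inr (Or.inl
          ⟨F, i1, i2, H333.OwnOne.charP_of_dvd hpF, q, hq, Or.inr ⟨hF, ⟨e⟩⟩⟩))))))))
      · exact (ExcRows.td4_false (cast_ne_zero hpF) hq hF (h.congr e)).elim
    · exact (H488.One.SzRee.row_sz h' h).elim
    · exact (H488.One.SzRee.row_ree h' h).elim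
    · have h'' := h'
      obtain ⟨F, i1, i2, m, hm, hF, ⟨e⟩⟩ := h'
      have h1 := h.congr e
      obtain ⟨h2, h3⟩ := H969.TwF.row_twF4 hm hF h1
      subst h2 h3
      refine Or.inr (Or.inr (Or.inr ⟨rfl, rfl, h'', fun x g hx j hj hg => ?_⟩))
      refine H969.TwF.no_conj hm hF h1 (x := e x) (g := e g) (by rw [e.orderOf_eq, hx]) hj ?_
      rw [← map_inv, ← map_mul, ← map_mul, hg, map_pow]
    · exact spo .tits (by decide) h'
  · rcases h' with h' | h' | h' | h' | h' | h' | h' | h' | h' | h' | h' | h' | h' | h' | h' | h' | h' | h' | h' | h' |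
      h' | h' | h' | h' | h' | h'
    · exact spo .m11 (by decide) h'
    · exact spo .m12 (by decide) h'
    · exact spo .m22 (by decide) h'
    · exact spo .m23 (by decide) h'
    · exact spo .m24 (by decide) h'
    · exact spo .j1 (by decide) h'
    · exact spo .j2 (by decide) h'
    · exact spo .j3 (by decide) h'
    · exact spo .j4 (by decide) h'
    · exact spo .co1 (by decide) h'
    · exact spo .co2 (by decide) h'
    · exact spo .co3 (by decide) h'
    · exact spo .mcl (by decide) h'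
    · exact spo .hs (by decide) h'
    · exact spo .suz (by decide) h'
    · exact spo .he (by decide) h'
    · exact spo .ru (by decide) h'
    · exact spo .on (by decide) h'
    · exact spo .ly (by decide) h'
    · exact spo .fi22 (by decide) h'
    · exact spo .fi23 (by decide) h'
    · exact spo .fi24 (by decide) h'
    · exact spo .hn (by decide) h'
    · exact spo .th (by decide) h'
    · exact spo .b (by decide) h'
    · exact spo .m (by decide) h'

end Cfsg.Agent.H319.One
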