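import Cfsg.Agent.H697.PSolvB
import Cfsg.Agent.H142.GmnBlock
import Cfsg.Agent.H415.Palfy.Ext
import Cfsg.Agent.S0133

/-!
# S4880: the `p`-solvable groups (helper319)
-/

set_option autoImplicit false

namespace Cfsg.Agent.H319.One

open Cfsg

universe u

/-- **The `p`-solvable case.** -/
theorem psolv {G : Type u} [Group G] [Finite G] {p : ℕ} [Fact p.Prime] {M : Ideal AlgInt} (hM : IsPModular p M)
    (hps : IsPSolvable p G) (hcore : pPrimeCore p G = ⊥) (hdiv : p ∣ Nat.card G)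
    (hconj : ∀ x y : G, x ≠ 1 → y ≠ 1 → (∃ k : ℕ, orderOf x = p ^ k) → (∃ k : ℕ, orderOf y = p ^ k) → IsConj x y) :
    p ≤ Nat.card {χ : IrrCharacter G // χ ∈ principalBlock M G ∧
        blockHeight p (principalBlock M G) (χ : G → ℂ) = 0} ∨
      (p = 11 ∧ Nat.card {χ : IrrCharacter G // χ ∈ principalBlock M G ∧
        blockHeight p (principalBlock M G) (χ : G → ℂ) = 0} = 10) := by
  classical
  have hp : p.Prime := Fact.out
  obtain ⟨V, H, hVn, hVc, hVp, hV1, hVH, hpH, hcent, htr⟩ :=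
    Cfsg.Agent.H697.ActMain.structure_of_core hps hcore hdiv hconj
  have hVpg : IsPGroup p V := by
    intro x
    exact ⟨1, Subtype.ext (by rw [pow_one]; exact hVp x x.2)⟩
  have hidx : ¬ p ∣ V.index := by rw [hVH.symm.index_eq_card]; exact hpH
  have hdeg : ∀ χ : IrrCharacter G, ¬ p ∣ charDegree (χ : G → ℂ) := by
    intro χ h
    apply hidx
    refine h.trans ?_
    have h1 : charDegree (χ : G → ℂ) ∈ charDegrees G :=
      Cfsg.Agent.H681.DegBasic.mem_charDegrees.2 ⟨χ, χ.2, (Cfsg.Agent.H686.CharKit.charDegree_irr χ).symm⟩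
    exact Cfsg.Agent.H415.Palfy.ito V hVc h1
  let P : Sylow p G := hVpg.toSylow hidx
  have hP : (P : Subgroup G) = V := rfl
  have hpe : ∀ v ∈ V, ∃ k : ℕ, orderOf v = p ^ k := by
    intro v hv
    obtain ⟨k, -, hk⟩ := (Nat.dvd_prime_pow hp).1 (show orderOf v ∣ p ^ 1 by
      rw [pow_one]
      exact orderOf_dvd_of_pow_eq_one (hVp v hv))
    exact ⟨k, hk⟩
  have hblk : ∀ χ : IrrCharacter G, χ ∈ principalBlock M G := by
    intro χ
    refine Cfsg.Agent.H142.GmnBlock.mem_principal hM P χ (hdeg χ) fun g hg => ?_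
    refine Cfsg.Agent.H142.GmnBlock.mem_of_pElement hM χ (hpe g (hcent g fun v hv => ?_))
    exact (Subgroup.mem_centralizer_iff.1 hg v hv).symm
  have hht : ∀ χ : IrrCharacter G, blockHeight p (principalBlock M G) (χ : G → ℂ) = 0 := by
    intro χ
    unfold blockHeight
    rw [Nat.factorization_eq_zero_of_not_dvd (hdeg χ), Nat.zero_sub]
  have hk0 : Nat.card {χ : IrrCharacter G // χ ∈ principalBlock M G ∧
      blockHeight p (principalBlock M G) (χ : G → ℂ) = 0} = Nat.card (ConjClasses G) := by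
    rw [← Cfsg.Agent.S0133.result]
    exact Nat.card_congr (Equiv.subtypeUnivEquiv fun χ => ⟨hblk χ, hht χ⟩)
  obtain ⟨v, hv1⟩ := Subgroup.ne_bot_iff_exists_ne_one.1 hV1
  have hlt : Nat.card (Cfsg.Agent.H697.Pk.PReg p G) < Nat.card (ConjClasses G) := by
    refine Finite.card_subtype_lt (x := ConjClasses.mk (v : G)) ?_
    rintro ⟨g, hg, hpg⟩
    have h1 : IsConj g (v : G) := ConjClasses.mk_eq_mk_iff_isConj.1 hg
    obtain ⟨k, hk⟩ := hpe v v.2
    obtain ⟨c, hc⟩ := isConj_iff.1 h1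
    have h2 : orderOf g = p ^ k := by
      rw [← hk, ← hc]
      exact (orderOf_injective (MulAut.conj c).toMonoidHom (MulAut.conj c).injective g).symm
    have h3 : k = 0 := by
      by_contra hk0
      exact hpg (h2 ▸ dvd_pow_self p hk0)
    rw [h3, pow_zero, orderOf_eq_one_iff] at hk
    exact hv1 (Subtype.ext hk)
  rw [hk0]
  rcases Cfsg.Agent.H697.PSolvB.main p hps hdiv hconj with h | ⟨h, -⟩ | ⟨h1, h2, -⟩
  · exact Or.inl (h.trans hlt.le)
  · left; omega
  · omega

end Cfsg.Agent.H319.One
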