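import Cfsg.Agent.H319.One.PslA
import Cfsg.Agent.S0133
import Cfsg.Agent.H686.CharKit

/-!
# S4880: the principal block of `PSL₂(q)` in its own characteristic (helper319)
-/

set_option autoImplicit false
set_option linter.unusedSectionVars false

namespace Cfsg.Agent.H319.One.PslB

open Cfsg Cfsg.Agent.ClassicalGeometry.PSL2Basic Matrix Cfsg.Agent.H319.One.PslA
open Cfsg.Agent.Characters

universe u

section

variable {F : Type} [Field F] [Fintype F] {X : Type u} [Group X] [Finite X] {p n : ℕ}

/-- the projection -/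
noncomputable def pr (e : X ≃* ProjectiveSpecialLinearGroup (Fin 2) F) : SpecialLinearGroup (Fin 2) F →* X :=
  e.symm.toMonoidHom.comp (QuotientGroup.mk' (Subgroup.center (SpecialLinearGroup (Fin 2) F)))

variable (e : X ≃* ProjectiveSpecialLinearGroup (Fin 2) F)

theorem pr_surj : Function.Surjective (pr e) :=
  e.symm.surjective.comp (QuotientGroup.mk'_surjective _)

theorem pr_eq_one {s : SpecialLinearGroup (Fin 2) F} :
    pr e s = 1 ↔ s ∈ Subgroup.center (SpecialLinearGroup (Fin 2) F) := by
  show e.symm (QuotientGroup.mk' _ s) = 1 ↔ _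
  rw [map_eq_one_iff e.symm e.symm.injective, ← MonoidHom.mem_ker, QuotientGroup.ker_mk']

theorem cast_p (hF : Fintype.card F = p ^ n) : (p : F) = 0 := by
  have h : ((Fintype.card F : ℕ) : F) = 0 := FiniteField.cast_card_eq_zero F
  rw [hF, Nat.cast_pow] at h
  exact eq_zero_of_pow_eq_zero h

theorem pr_neg (s : SpecialLinearGroup (Fin 2) F) : pr e (-s) = pr e s := by
  have h : pr e (-1) = 1 := (pr_eq_one e).2 (mem_center_SL2_iff.2 (Or.inr rfl))
  rw [← neg_one_mul s, map_mul, h, one_mul]

/-- elements commuting with the transvection have order dividing `p` -/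
theorem pow_of_commute (hF : Fintype.card F = p ^ n) (hodd : Odd (Fintype.card F)) {g : X}
    (h : Commute g (pr e (uu 1))) : g ^ p = 1 := by
  obtain ⟨s, rfl⟩ := pr_surj e g
  have h1 : pr e (s * uu 1 * s⁻¹ * (uu 1)⁻¹) = 1 := by
    rw [map_mul, map_mul, map_mul, map_inv, map_inv, h.eq]
    group
  obtain ⟨b, rfl | rfl⟩ := comm_uu ((two_ne_zero_iff_odd F).2 hodd) ((pr_eq_one e).1 h1)
  · rw [← map_pow, uu_pow, cast_p hF, zero_mul, uu_zero, map_one]
  · rw [pr_neg, ← map_pow, uu_pow, cast_p hF, zero_mul, uu_zero, map_one]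

theorem orderOf_x0 [Fact p.Prime] (hF : Fintype.card F = p ^ n) : orderOf (pr e (uu 1)) = p := by
  refine orderOf_eq_prime ?_ ?_
  · rw [← map_pow, uu_pow, cast_p hF, zero_mul, uu_zero, map_one]
  · intro h
    exact one_ne_zero (uu_center ((pr_eq_one e).1 h))

/-- `q` divides the order of the centralizer of the transvection -/
theorem dvd_card : Fintype.card F ∣ Nat.card (Subgroup.centralizer ({pr e (uu 1)} : Set X)) := by
  let φ : Multiplicative F →* Subgroup.centralizer ({pr e (uu 1)} : Set X) :=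
    ((pr e).comp (uh F)).codRestrict _ (fun b => by
      rw [Subgroup.mem_centralizer_singleton_iff]
      show pr e (uu b.toAdd) * pr e (uu 1) = pr e (uu 1) * pr e (uu b.toAdd)
      rw [← map_mul, ← map_mul, uu_mul, uu_mul, add_comm])
  have hφ : Function.Injective φ := by
    rw [injective_iff_map_eq_one]
    intro b hb
    have h1 : pr e (uu b.toAdd) = 1 := congrArg Subtype.val hb
    exact Multiplicative.toAdd.injective (uu_center ((pr_eq_one e).1 h1))
  have h := Subgroup.card_dvd_of_injective φ hφ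
  rwa [Nat.card_eq_fintype_card, Fintype.card_multiplicative] at h

theorem index_not [Fact p.Prime] (hn : 0 < n) (hF : Fintype.card F = p ^ n) (hodd : Odd (Fintype.card F)) :
    ¬ p ∣ (Subgroup.centralizer ({pr e (uu 1)} : Set X)).index := by
  intro h
  have hp : p.Prime := Fact.out
  have h1 : Nat.card X * 2 = Fintype.card F * (Fintype.card F ^ 2 - 1) := by
    rw [Nat.card_congr e.toEquiv]
    exact card_PSL2_odd F hodd
  have h2 := (Subgroup.centralizer ({pr e (uu 1)} : Set X)).card_mul_index
  obtain ⟨a, ha⟩ := dvd_card e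
  obtain ⟨b, hb⟩ := h
  have hq : 0 < Fintype.card F := Fintype.card_pos
  have h3 : Fintype.card F * (p * (a * b * 2)) = Fintype.card F * (Fintype.card F ^ 2 - 1) := by
    rw [← h1, ← h2, ha, hb]
    ring
  have h4 := Nat.eq_of_mul_eq_mul_left hq h3
  have h5 : p ∣ Fintype.card F ^ 2 - 1 := ⟨_, h4.symm⟩
  have h6 : p ∣ Fintype.card F ^ 2 := by
    rw [hF, ← pow_mul]
    exact dvd_pow_self p (by positivity)
  have h7 : 1 ≤ Fintype.card F ^ 2 := Nat.one_le_pow _ _ hq
  have h8 := (Nat.dvd_sub_iff_right h7 h6).1 h5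
  exact hp.one_lt.ne' (Nat.dvd_one.1 h8)

include e in
/-- the degrees -/
theorem deg_cases [Fact p.Prime] (hn : 0 < n) (hF : Fintype.card F = p ^ n) (hodd : Odd (Fintype.card F))
    (θ : IrrCharacter X) : charDegree (θ : X → ℂ) = Fintype.card F ∨ ¬ p ∣ charDegree (θ : X → ℂ) := by
  have hp : p.Prime := Fact.out
  have hp1 := hp.two_le
  have hpq : p ∣ Fintype.card F := by rw [hF]; exact dvd_pow_self p hn.ne'
  obtain ⟨m, hm⟩ := hodd
  have hm0 : 0 < m := by
    rcases Nat.eq_zero_or_pos m with h | h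
    · rw [h] at hm
      rw [hm] at hpq
      have := Nat.le_of_dvd (by norm_num) hpq
      omega
    · exact h
  have h1 := (S2299.result (F := F) ⟨m, hm⟩).1 ((θ : X → ℂ) ∘ pr e)
    (Core.isIrr_comp (pr e) (pr_surj e) θ.2)
  have h2 : ((θ : X → ℂ) ∘ pr e) 1 = (charDegree (θ : X → ℂ) : ℂ) := by
    rw [Function.comp_apply, map_one]
    exact (Cfsg.Agent.H686.CharKit.charDegree_irr θ).symm
  rw [h2] at h1
  rcases h1 with h | h | h | h | h | h
  · right
    have h' : charDegree (θ : X → ℂ) = 1 := by exact_mod_cast h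
    rw [h']
    intro hd
    exact hp.one_lt.ne' (Nat.dvd_one.1 hd)
  · left; exact_mod_cast h
  · right
    have h' : charDegree (θ : X → ℂ) = Fintype.card F + 1 := by exact_mod_cast h
    rw [h']
    intro hd
    exact hp.one_lt.ne' (Nat.dvd_one.1 ((Nat.dvd_add_right hpq).1 hd))
  · right
    have h' : charDegree (θ : X → ℂ) + 1 = Fintype.card F := by
      have : ((charDegree (θ : X → ℂ) : ℂ)) + 1 = (Fintype.card F : ℂ) := by rw [h]; ring
      exact_mod_cast this
    intro hd
    exact hp.one_lt.ne' (Nat.dvd_one.1 ((Nat.dvd_add_right hd).1 (h' ▸ hpq)))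
  · right
    have h' : charDegree (θ : X → ℂ) = m + 1 := by
      have : charDegree (θ : X → ℂ) = (Fintype.card F + 1) / 2 := by exact_mod_cast h
      omega
    intro hd
    have h3 : p ∣ 2 * charDegree (θ : X → ℂ) := hd.mul_left 2
    have h4 : 2 * charDegree (θ : X → ℂ) = Fintype.card F + 1 := by omega
    rw [h4] at h3
    exact hp.one_lt.ne' (Nat.dvd_one.1 ((Nat.dvd_add_right hpq).1 h3))
  · right
    have h' : charDegree (θ : X → ℂ) = m := by
      have : charDegree (θ : X → ℂ) = (Fintype.card F - 1) / 2 := by exact_mod_cast h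
      omega
    intro hd
    have h3 : p ∣ 2 * charDegree (θ : X → ℂ) := hd.mul_left 2
    have h4 : 2 * charDegree (θ : X → ℂ) + 1 = Fintype.card F := by omega
    exact hp.one_lt.ne' (Nat.dvd_one.1 ((Nat.dvd_add_right h3).1 (h4 ▸ hpq)))

include e in
/-- at most one irreducible character of degree `q` -/
theorem card_deg_q (hodd : Odd (Fintype.card F)) (h5 : 5 ≤ Fintype.card F) :
    Nat.card {θ : IrrCharacter X // charDegree (θ : X → ℂ) = Fintype.card F} ≤ 1 := by
  classical
  have h1 := ((S2299.result (F := F) hodd).2 h5).2.1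
  rw [← h1]
  have := Core.finite_irr (G := SpecialLinearGroup (Fin 2) F)
  refine Nat.card_le_card_of_injective (fun θ => ⟨⟨((θ.1 : IrrCharacter X) : X → ℂ) ∘ pr e,
    Core.isIrr_comp (pr e) (pr_surj e) θ.1.2⟩, ?_⟩) ?_
  · show ((θ.1 : IrrCharacter X) : X → ℂ) (pr e 1) = _
    rw [map_one, ← Cfsg.Agent.H686.CharKit.charDegree_irr, θ.2]
  · intro a b hab
    have h2 : ((a.1 : IrrCharacter X) : X → ℂ) ∘ pr e = ((b.1 : IrrCharacter X) : X → ℂ) ∘ pr e :=
      congrArg (fun z => ((z.1 : IrrCharacter (SpecialLinearGroup (Fin 2) F)) :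
        SpecialLinearGroup (Fin 2) F → ℂ)) hab
    exact Subtype.ext (Subtype.ext ((pr_surj e).injective_comp_right h2))

include e in
/-- characters of `p'`-degree lie in the principal block -/
theorem mem_principal {M : Ideal AlgInt} [Fact p.Prime] (hM : IsPModular p M) (hF : Fintype.card F = p ^ n)
    (hodd : Odd (Fintype.card F)) (θ : IrrCharacter X) (h : ¬ p ∣ charDegree (θ : X → ℂ)) :
    θ ∈ principalBlock M X := by
  have hp : p.Prime := Fact.out
  have hz : IsPGroup p (Subgroup.zpowers (pr e (uu 1))) := by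
    refine IsPGroup.of_card (n := 1) ?_
    rw [Nat.card_zpowers, orderOf_x0 e hF, pow_one]
  obtain ⟨P, hP⟩ := hz.exists_le_sylow
  refine Cfsg.Agent.H142.GmnBlock.mem_principal hM P θ h fun g hg => ?_
  refine Cfsg.Agent.H142.GmnBlock.mem_of_pElement hM θ ?_
  have h1 : Commute g (pr e (uu 1)) :=
    (Subgroup.mem_centralizer_iff.1 hg _ (hP (Subgroup.mem_zpowers _))).symm
  obtain ⟨k, -, hk⟩ := (Nat.dvd_prime_pow hp).1 (show orderOf g ∣ p ^ 1 by
    rw [pow_one]
    exact orderOf_dvd_of_pow_eq_one (pow_of_commute e hF hodd h1))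
  exact ⟨k, hk⟩

include e in
/-- members of the principal block have `p'`-degree -/
theorem deg_of_mem {M : Ideal AlgInt} [Fact p.Prime] (hM : IsPModular p M) (hn : 0 < n) (hF : Fintype.card F = p ^ n)
    (hodd : Odd (Fintype.card F)) (θ : IrrCharacter X) (h : θ ∈ principalBlock M X) :
    ¬ p ∣ charDegree (θ : X → ℂ) := by
  have hp : p.Prime := Fact.out
  rcases deg_cases e hn hF hodd θ with h1 | h1
  swap
  · exact h1
  exfalso
  have hfac : (Nat.card X).factorization p = n := by
    have h2 : Nat.card X * 2 = Fintype.card F * (Fintype.card F ^ 2 - 1) := by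
      rw [Nat.card_congr e.toEquiv]
      exact card_PSL2_odd F hodd
    have hq : 0 < Fintype.card F := Fintype.card_pos
    have hp2 : ¬ p ∣ 2 := by
      intro h
      have h3 := (Nat.prime_dvd_prime_iff_eq hp Nat.prime_two).1 h
      rw [hF, h3] at hodd
      exact (Nat.not_odd_iff_even.2 (Nat.even_pow.2 ⟨even_two, hn.ne'⟩)) hodd
    have hq2 : ¬ p ∣ Fintype.card F ^ 2 - 1 := by
      intro h5
      have h6 : p ∣ Fintype.card F ^ 2 := by
        rw [hF, ← pow_mul]
        exact dvd_pow_self p (by positivity)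
      have h7 : 1 ≤ Fintype.card F ^ 2 := Nat.one_le_pow _ _ hq
      exact hp.one_lt.ne' (Nat.dvd_one.1 ((Nat.dvd_sub_iff_right h7 h6).1 h5))
    have h3 := congrArg (fun k => k.factorization p) h2
    have hne : Fintype.card F ^ 2 - 1 ≠ 0 := fun h0 => hq2 (h0 ▸ dvd_zero p)
    simp only [Nat.factorization_mul Nat.card_pos.ne' two_ne_zero,
      Nat.factorization_mul hq.ne' hne, Finsupp.add_apply,
      Nat.factorization_eq_zero_of_not_dvd hp2, Nat.factorization_eq_zero_of_not_dvd hq2, add_zero] at h3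
    rw [h3, hF, Nat.factorization_pow, Finsupp.smul_apply, hp.factorization_self, smul_eq_mul, mul_one]
  have h0 : (θ : X → ℂ) (pr e (uu 1)) = 0 := by
    refine Cfsg.Agent.H692.RealOver.defect_zero_vanish θ.2 p hp ?_ ?_
    · rw [hfac, h1, hF]
    · rw [orderOf_x0 e hF]
  have h2 := h (pr e (uu 1))
  rw [centralChar, centralChar, h0] at h2
  simp only [mul_one, div_one, mul_zero, zero_div, sub_zero] at h2
  exact index_not e hn hF hodd ((Cfsg.Agent.Blocks.Local.memLocalIdeal_natCast_iff hM _).1 h2)

theorem card_conj_congr {Y Z : Type*} [Group Y] [Group Z] [Finite Y] (f : Y ≃* Z) :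
    Nat.card (ConjClasses Y) = Nat.card (ConjClasses Z) := by
  have : Finite Z := Finite.of_equiv Y f.toEquiv
  refine le_antisymm ?_ ?_
  · exact Nat.card_le_card_of_surjective (ConjClasses.map f.symm.toMonoidHom)
      (ConjClasses.map_surjective f.symm.surjective)
  · exact Nat.card_le_card_of_surjective (ConjClasses.map f.toMonoidHom)
      (ConjClasses.map_surjective f.surjective)

include e in
/-- **The size of the principal block.** -/
theorem card_principal {M : Ideal AlgInt} [Fact p.Prime] (hM : IsPModular p M) (hn : 0 < n)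
    (hF : Fintype.card F = p ^ n) (hodd : Odd (Fintype.card F)) (h5 : 5 ≤ Fintype.card F) :
    Fintype.card F + 3 ≤ 2 * Nat.card (principalBlock M X) := by
  classical
  have hfin := Core.finite_irr (G := X)
  have := Fintype.ofFinite (IrrCharacter X)
  have h1 : 2 * Nat.card (IrrCharacter X) = Fintype.card F + 5 := by
    rw [S0133.result, ← Cfsg.Agent.H525.PslK.psl2_odd hodd]
    congr 1
    exact card_conj_congr e
  have h2 := card_deg_q e hodd h5
  have h3 : Nat.card (IrrCharacter X) ≤ Nat.card (principalBlock M X) +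
      Nat.card {θ : IrrCharacter X // charDegree (θ : X → ℂ) = Fintype.card F} := by
    have h4 : ∀ θ : IrrCharacter X, θ ∈ principalBlock M X ∨ charDegree (θ : X → ℂ) = Fintype.card F := by
      intro θ
      rcases deg_cases e hn hF hodd θ with h | h
      · exact Or.inr h
      · exact Or.inl (mem_principal e hM hF hodd θ h)
    rw [← Nat.card_sum]
    refine Nat.card_le_card_of_injective (fun θ => if h : θ ∈ principalBlock M X then Sum.inl ⟨θ, h⟩
      else Sum.inr ⟨θ, (h4 θ).resolve_left h⟩) ?_
    intro a b hab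
    by_cases ha : a ∈ principalBlock M X <;> by_cases hb : b ∈ principalBlock M X <;>
      simp only [ha, hb, dite_true, dite_false, reduceCtorEq, Sum.inl.injEq, Sum.inr.injEq,
        Subtype.mk.injEq] at hab
    · exact hab
    · exact hab
  omega

end

end Cfsg.Agent.H319.One.PslB
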