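import Cfsg.Agent.H319.One.PslB
import Cfsg.Agent.H735.S4822.Orb
import Cfsg.Agent.H590.OddPrincipal
import Cfsg.Agent.H597.Degrees
import Cfsg.Agent.S0813

/-!
# S4880: `PSL₂(pⁿ)`, `n ≥ 2` (helper319)
-/

set_option autoImplicit false
set_option linter.unusedSectionVars false

namespace Cfsg.Agent.H319.One

open Cfsg Cfsg.Agent.ClassicalGeometry.PSL2Basic Matrix Cfsg.Agent.H319.One.PslB

universe u

theorem four_le {n : ℕ} (hn : 3 ≤ n) : 4 * n ≤ 7 ^ (n - 1) := by
  induction n, hn using Nat.le_induction with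
  | base => norm_num
  | succ n hn ih =>
    have h : 7 ^ (n + 1 - 1) = 7 * 7 ^ (n - 1) := by
      rw [← pow_succ']
      congr 1
      omega
    rw [h]
    omega

theorem num {p n r : ℕ} (h2 : 2 ≤ n) (h7 : 7 ≤ p) (h : p ^ n + 1 ≤ 4 * n * r) (hr : r + 2 ≤ p) : False := by
  rcases Nat.lt_or_ge n 3 with h3 | h3
  · have hn : n = 2 := by omega
    subst hn
    obtain ⟨m, rfl⟩ : ∃ m, p = m + 7 := ⟨p - 7, by omega⟩
    have hr' : r ≤ m + 5 := by omega
    nlinarith [hr', h]
  · have h4 := four_le h3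
    have h5 : 7 ^ (n - 1) ≤ p ^ (n - 1) := Nat.pow_le_pow_left h7 _
    have h6 : p ^ n = p ^ (n - 1) * p := by
      rw [← pow_succ]
      congr 1
      omega
    have h8 : 4 * n * p ≤ p ^ (n - 1) * p := Nat.mul_le_mul_right p (h4.trans h5)
    have h9 : 4 * n * r ≤ 4 * n * p := Nat.mul_le_mul_left _ (by omega)
    omega

/-- **The row `PSL₂(pⁿ)`.** -/
theorem psl2_row {G : Type u} [Group G] [Finite G] {p : ℕ} [Fact p.Prime] {M : Ideal AlgInt}
    (hM : IsPModular p M) (T : Subgroup G) [T.Normal]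
    (hTC : ∀ g : G, (∀ t ∈ T, Commute g t) → g = 1)
    (hTp : ∀ x : G, (∃ k, orderOf x = p ^ k) → x ∈ T)
    {F : Type} [Field F] [Fintype F] {n : ℕ} (hF : Fintype.card F = p ^ n) (h2 : 2 ≤ n) (h7 : 7 ≤ p)
    (e : T ≃* Matrix.ProjectiveSpecialLinearGroup (Fin 2) F) :
    p ≤ Nat.card {χ : IrrCharacter G // χ ∈ principalBlock M G ∧
        blockHeight p (principalBlock M G) (χ : G → ℂ) = 0} := by
  classical
  have hp : p.Prime := Fact.out
  have hodd : Odd (Fintype.card F) := by
    rw [hF]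
    exact (hp.odd_of_ne_two (by omega)).pow
  have hq5 : 5 ≤ Fintype.card F := by
    rw [hF]
    calc 5 ≤ p := by omega
      _ = p ^ 1 := (pow_one p).symm
      _ ≤ p ^ n := Nat.pow_le_pow_right (by omega) (by omega)
  have hidx : ¬ p ∣ T.index := by
    obtain ⟨P⟩ : Nonempty (Sylow p G) := inferInstance
    have hPT : (P : Subgroup G) ≤ T := by
      intro x hx
      apply hTp
      obtain ⟨k, hk⟩ := (IsPGroup.iff_orderOf.1 P.isPGroup') ⟨x, hx⟩
      exact ⟨k, by rw [← hk]; exact Subgroup.orderOf_coe (⟨x, hx⟩ : (P : Subgroup G))⟩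
    exact fun h => P.not_dvd_index (h.trans (Subgroup.index_dvd_of_le hPT))
  have hTn : T.index ≤ 2 * n := by
    have hinj : Function.Injective (MulAut.conjNormal : G →* MulAut T) := by
      rw [injective_iff_map_eq_one]
      intro g hg
      apply hTC
      intro t ht
      have h1 := congrArg (fun f : MulAut T => ((f ⟨t, ht⟩ : T) : G)) hg
      simp only [MulAut.conjNormal_apply, MulAut.one_apply] at h1
      exact mul_inv_eq_iff_eq_mul.1 h1
    have h1 : Nat.card G ≤ Nat.card (MulAut T) := Nat.card_le_card_of_injective _ hinj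
    have h3 : Nat.card (MulAut T) = n * (Nat.gcd 2 (Fintype.card F - 1) * Nat.card T) := by
      rw [Nat.card_congr (MulAut.congr e).toEquiv, S0813.result p n (by omega) hF 2 le_rfl
        (fun _ => by rw [← hF]; omega), if_pos rfl, card_PGL2, one_mul, Nat.card_congr e.toEquiv,
        ← card_PSL2_gcd]
      ring
    have h4 := T.index_mul_card
    have h5 : 0 < Nat.card T := Nat.card_pos
    have h6 : Nat.gcd 2 (Fintype.card F - 1) ≤ 2 := Nat.gcd_le_left _ (by norm_num)
    have h8 : T.index * Nat.card T ≤ 2 * n * Nat.card T := by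
      rw [h4]
      calc Nat.card G ≤ n * (Nat.gcd 2 (Fintype.card F - 1) * Nat.card T) := h3 ▸ h1
        _ ≤ n * (2 * Nat.card T) := by gcongr
        _ = 2 * n * Nat.card T := by ring
    exact Nat.le_of_mul_le_mul_right h8 h5
  have := Fintype.ofFinite G
  have := Fintype.ofFinite T
  have hdeg : ∀ χ : IrrCharacter G, χ ∈ principalBlock M G → ¬ p ∣ charDegree (χ : G → ℂ) := by
    intro χ hχ hd
    obtain ⟨θ, hθ⟩ := Cfsg.Agent.H590.OddPrincipal.exists_under T χ
    have h1 := Cfsg.Agent.H611.CoverPrincipal.mem_principalBlock_of_over p hM T χ θ hθ hχ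
    have h3 := deg_of_mem e hM (by omega) hF hodd θ h1
    obtain ⟨c, hc, hcd⟩ := Cfsg.Agent.H597.Degrees.degree_over T χ.2 θ.2 hθ
    rw [hc] at hd
    rcases hp.dvd_mul.1 hd with h | h
    · exact h3 h
    · exact hidx (h.trans hcd)
  have hk0 : Nat.card {χ : IrrCharacter G // χ ∈ principalBlock M G ∧
      blockHeight p (principalBlock M G) (χ : G → ℂ) = 0} = Nat.card (principalBlock M G) := by
    refine Nat.card_congr (Equiv.subtypeEquivRight fun χ => ⟨fun h => h.1, fun h => ⟨h, ?_⟩⟩)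
    unfold blockHeight
    rw [Nat.factorization_eq_zero_of_not_dvd (hdeg χ h), Nat.zero_sub]
  rw [hk0]
  obtain ⟨P⟩ : Nonempty (Sylow p G) := inferInstance
  have hKn : (T ⊔ Subgroup.centralizer ((P : Subgroup G) : Set G)).Normal :=
    Cfsg.Agent.H735.S4822.sup_normal T hidx P
  obtain ⟨r, hr1, hr2⟩ := Cfsg.Agent.H735.S4822.count_index hM T hidx P
    (T ⊔ Subgroup.centralizer ((P : Subgroup G) : Set G)) rfl
  have hK : (T ⊔ Subgroup.centralizer ((P : Subgroup G) : Set G)).index ≤ 2 * n :=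
    (Nat.le_of_dvd (Nat.pos_of_ne_zero Subgroup.index_ne_zero_of_finite)
      (Subgroup.index_dvd_of_le le_sup_left)).trans hTn
  have hc1 : 0 < Nat.card (ConjClasses (G ⧸ (T ⊔ Subgroup.centralizer ((P : Subgroup G) : Set G)))) :=
    Nat.card_pos
  have hB := card_principal e hM (by omega) hF hodd hq5
  by_contra hcon
  push Not at hcon
  have hrK : r * (T ⊔ Subgroup.centralizer ((P : Subgroup G) : Set G)).index ≤ r * (2 * n) :=
    Nat.mul_le_mul_left _ hK
  refine num (p := p) (n := n) (r := r) h2 h7 ?_ (by omega)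
  have h9 : 4 * n * r = 2 * (r * (2 * n)) := by ring
  rw [h9, ← hF]
  omega

end Cfsg.Agent.H319.One
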