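import Cfsg.Agent.H319.One.Comb
import Cfsg.Agent.H795.RootConn
import Cfsg.Agent.Nodes.BNOf

/-!
# Counting the roots on the characters of an elementary abelian group of the torus (helper319, S4880)

`FD cs h p q n Z X θ` : `E` elementary abelian of order `p ^ n`, `X b` (`b` in the root lattice) characters of `E`, additive in `b`,
`θ` an automorphism of the lattice preserving the roots with `X (θ b) = X b ^ q`, the number of the roots trivial on `x` is `Z` for
all `x ≠ 1`.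

* `FD.main`: `|Φ| = c + M (1 + p + ... + p ^ (n - 1))`, `lcm (2, ord_p q) ∣ M`, `0 < M`, the fibres over nontrivial characters
  have at most `M / lcm (2, ord_p q)` elements;
* `FD.c_zero`: if the fibres have one element, then `c = 0` (irreducible root system).
-/

set_option autoImplicit false
set_option linter.unusedSectionVars false

namespace Cfsg.Agent.H319.One.RootC

open CoxeterSystem Cfsg.Agent.ChevalleyStructure.CoxeterGeom Cfsg.Agent.Tits.Roots Cfsg.Agent.Tits.Core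
  Cfsg.Agent.Nodes.Coroot Cfsg.Agent.H795.RootConn

variable {I W : Type*} [Fintype I] [DecidableEq I] [Group W] {M : CoxeterMatrix I}
  (cs : CoxeterSystem M W) {A : I → I → ℤ} (h : IsCartan M A)

/-- The data of a toral elementary abelian Sylow subgroup. -/
structure FD {E K : Type*} [CommGroup E] [Field K] (p q n Z : ℕ)
    (X : (I → ℤ) → (E →* Kˣ)) (θ : (I → ℤ) ≃+ (I → ℤ)) : Prop where
  exp : ∀ x : E, x ^ p = 1
  card : Nat.card E = p ^ n
  add : ∀ b c x, X (b + c) x = X b x * X c x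
  root : ∀ a, IsRoot cs h (θ a) ↔ IsRoot cs h a
  act : ∀ b x, X (θ b) x = X b x ^ q
  sep : ∀ x : E, x ≠ 1 → ∃ a, IsRoot cs h a ∧ X a x ≠ 1
  cst : ∀ x : E, x ≠ 1 → {a | IsRoot cs h a ∧ X a x = 1}.ncard = Z

variable {cs h}

section

variable {E K : Type*} [CommGroup E] [Field K] {p q n Z : ℕ} {X : (I → ℤ) → (E →* Kˣ)} {θ : (I → ℤ) ≃+ (I → ℤ)}

theorem FD.zero (D : FD cs h p q n Z X θ) (x : E) : X 0 x = 1 := by
  have h1 := D.add 0 0 x
  rw [add_zero] at h1
  exact (mul_eq_left.1 h1.symm)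

theorem FD.neg (D : FD cs h p q n Z X θ) (b : I → ℤ) (x : E) : X (-b) x = (X b x)⁻¹ := by
  have h1 := D.add (-b) b x
  rw [neg_add_cancel, D.zero] at h1
  exact eq_inv_of_mul_eq_one_left h1.symm

theorem FD.nsmul (D : FD cs h p q n Z X θ) (m : ℕ) (b : I → ℤ) (x : E) : X (m • b) x = X b x ^ m := by
  induction m with
  | zero => rw [zero_smul, D.zero, pow_zero]
  | succ m ih => rw [succ_nsmul, D.add, ih, pow_succ]

theorem FD.zsmul (D : FD cs h p q n Z X θ) (m : ℤ) (b : I → ℤ) (x : E) : X (m • b) x = X b x ^ m := by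
  obtain ⟨k, rfl | rfl⟩ := Int.eq_nat_or_neg m
  · rw [natCast_zsmul, D.nsmul, zpow_natCast]
  · rw [neg_smul, natCast_zsmul, D.neg, D.nsmul, zpow_neg, zpow_natCast]

/-- exponents modulo `p` -/
theorem pow_congr_mod {u : Kˣ} (hu : u ^ p = 1) {a b : ℕ} (hab : (a : ZMod p) = b) : u ^ a = u ^ b := by
  rw [ZMod.natCast_eq_natCast_iff'] at hab
  rw [← Nat.mod_add_div a p, ← Nat.mod_add_div b p, pow_add, pow_add, pow_mul, pow_mul, hu, one_pow, one_pow, hab]

theorem FD.pow_p (D : FD cs h p q n Z X θ) (b : I → ℤ) (x : E) : X b x ^ p = 1 := by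
  rw [← map_pow, D.exp, map_one]

/-- reflections in trivial roots -/
theorem FD.refl_eq (D : FD cs h p q n Z X θ) {b c : I → ℤ} (hc : X c = 1) (m : ℤ) : X (b - m • c) = X b := by
  refine MonoidHom.ext fun x => ?_
  rw [sub_eq_add_neg, D.add, D.neg, D.zsmul, hc]
  show X b x * ((1 : Kˣ) ^ m)⁻¹ = _
  rw [one_zpow, inv_one, mul_one]

variable [hp : Fact p.Prime]

/-- the group of the multipliers -/
def mult (D : FD cs h p q n Z X θ) : Subgroup (ZMod p)ˣ where
  carrier := {u | ∃ g : Equiv.Perm {a // IsRoot cs h a}, ∀ b, X (g b).1 = (X b.1) ^ (u : ZMod p).val}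
  one_mem' := by
    have h5 : Fact (1 < p) := ⟨hp.out.one_lt⟩
    exact ⟨1, fun b => by rw [Units.val_one, ZMod.val_one, Comb.hpow_one]; rfl⟩
  mul_mem' := by
    rintro u v ⟨g, hg⟩ ⟨k, hk⟩
    refine ⟨g * k, fun b => ?_⟩
    rw [Equiv.Perm.mul_apply, hg, hk, mul_comm u v, Units.val_mul, Comb.pow_val_mul (D.pow_p b.1)]
  inv_mem' := by
    rintro u ⟨g, hg⟩
    refine ⟨g⁻¹, fun b => ?_⟩
    have h5 : Fact (1 < p) := ⟨hp.out.one_lt⟩
    have h1 := hg (g⁻¹ b)
    have e0 : g (g⁻¹ b) = b := g.apply_symm_apply b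
    rw [e0] at h1
    rw [h1, ← Comb.pow_val_mul (D.pow_p _), ← Units.val_mul, mul_inv_cancel, Units.val_one, ZMod.val_one, Comb.hpow_one]

theorem neg_one_mem_mult (D : FD cs h p q n Z X θ) : (-1 : (ZMod p)ˣ) ∈ mult D := by
  refine ⟨⟨fun a => ⟨-a.1, a.2.neg⟩, fun a => ⟨-a.1, a.2.neg⟩, fun a => by simp, fun a => by simp⟩, fun b => ?_⟩
  refine MonoidHom.ext fun x => ?_
  show X (-b.1) x = _
  rw [D.neg, MonoidHom.pow_apply]
  symm
  apply eq_inv_of_mul_eq_one_left
  rw [← pow_succ, ← pow_zero (X b.1 x)]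
  apply pow_congr_mod (D.pow_p _ _)
  push_cast
  rw [ZMod.natCast_zmod_val]
  simp

theorem q_mem_mult (D : FD cs h p q n Z X θ) (hq : (q : ZMod p) ≠ 0) : Units.mk0 (q : ZMod p) hq ∈ mult D := by
  refine ⟨⟨fun a => ⟨θ a.1, (D.root _).2 a.2⟩, fun a => ⟨θ.symm a.1, by
    rw [← D.root, AddEquiv.apply_symm_apply]; exact a.2⟩, fun a => by simp, fun a => by simp⟩, fun b => ?_⟩
  refine MonoidHom.ext fun x => ?_
  show X (θ b.1) x = _
  rw [D.act, MonoidHom.pow_apply, Units.val_mk0]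
  apply pow_congr_mod (D.pow_p _ _)
  rw [ZMod.natCast_zmod_val]

theorem lcm_dvd_mult (D : FD cs h p q n Z X θ) (h3 : 3 ≤ p) (hq : (q : ZMod p) ≠ 0) :
    Nat.lcm 2 (orderOf (q : ZMod p)) ∣ Nat.card (mult D) := by
  apply Nat.lcm_dvd
  · have h1 : orderOf (-1 : (ZMod p)ˣ) = 2 := by
      apply orderOf_eq_prime
      · rw [neg_one_sq]
      · intro h2
        have h4 : Fact (2 < p) := ⟨by omega⟩
        have h5 := congrArg (fun z : (ZMod p)ˣ => (z : ZMod p)) h2
        simp only [Units.val_neg, Units.val_one] at h5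
        exact ZMod.neg_one_ne_one h5
    rw [← h1]
    exact Subgroup.orderOf_dvd_natCard _ (neg_one_mem_mult D)
  · have h1 : orderOf (Units.mk0 (q : ZMod p) hq) = orderOf (q : ZMod p) := by
      rw [← orderOf_units, Units.val_mk0]
    rw [← h1]
    exact Subgroup.orderOf_dvd_natCard _ (q_mem_mult D hq)

/-- **Counting the roots.** -/
theorem FD.main [Finite W] (D : FD cs h p q n Z X θ) (h3 : 3 ≤ p) (hn : 2 ≤ n) (hq : (q : ZMod p) ≠ 0) :
    ∃ c m, c = {a | IsRoot cs h a ∧ X a = 1}.ncard ∧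
      {a | IsRoot cs h a}.ncard = c + m * ∑ i ∈ Finset.range n, p ^ i ∧
      Nat.lcm 2 (orderOf (q : ZMod p)) ∣ m ∧ 0 < m ∧
      ∀ b₀, IsRoot cs h b₀ → X b₀ ≠ 1 →
        Nat.lcm 2 (orderOf (q : ZMod p)) * {a | IsRoot cs h a ∧ X a = X b₀}.ncard ≤ m := by
  classical
  obtain ⟨a, rfl⟩ : ∃ a, n = a + 2 := ⟨n - 2, by omega⟩
  have hfinE : Finite E := Nat.finite_of_card_ne_zero (by rw [D.card]; exact (Nat.pow_pos hp.out.pos).ne')
  have : Fintype E := Fintype.ofFinite E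
  have hfin : Finite {a // IsRoot cs h a} := Cfsg.Agent.Nodes.BNOf.RGD.finite_roots (cs := cs) (h := h)
  have : Fintype {a // IsRoot cs h a} := Fintype.ofFinite _
  have hconv : ∀ P : (I → ℤ) → Prop, Nat.card {b : {a // IsRoot cs h a} // P b.1} = {a | IsRoot cs h a ∧ P a}.ncard := by
    intro P
    rw [← Nat.card_coe_set_eq]
    exact Nat.card_congr (Equiv.subtypeSubtypeEquivSubtypeInter (fun a => IsRoot cs h a) P)
  obtain ⟨c, m, h1, h2, h4, h5⟩ := Comb.count (Φ := {a // IsRoot cs h a}) (Z := Z) D.exp D.card (fun b => X b.1)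
    (fun x hx => by
      rw [← D.cst x hx, ← hconv (fun a => X a x = 1), Nat.card_eq_fintype_card, Fintype.card_subtype])
    (mult D) (fun u hu => hu)
  have hL := lcm_dvd_mult D h3 hq
  have hL0 : 0 < Nat.card (mult D) := Nat.card_pos
  refine ⟨c, m, ?_, ?_, hL.trans h4, ?_, ?_⟩
  · rw [h1, ← hconv (fun a => X a = 1)]
  · rw [← h2, ← Nat.card_eq_fintype_card, ← Nat.card_coe_set_eq]
    rfl
  · -- a nontrivial root
    have h6 : 1 < Nat.card E := by
      rw [D.card]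
      exact Nat.one_lt_pow (by omega) hp.out.one_lt
    obtain ⟨x, hx⟩ : ∃ x : E, x ≠ 1 := by
      have : Nontrivial E := Finite.one_lt_card_iff_nontrivial.1 h6
      exact exists_ne 1
    obtain ⟨b, hb, hbx⟩ := D.sep x hx
    have h7 : X b ≠ 1 := fun h8 => hbx (by rw [h8]; rfl)
    have h8 := h5 ⟨b, hb⟩ h7
    have h9 : 0 < Nat.card {b' : {a // IsRoot cs h a} // X b'.1 = X b} := by
      have : Nonempty {b' : {a // IsRoot cs h a} // X b'.1 = X b} := ⟨⟨⟨b, hb⟩, rfl⟩⟩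
      exact Nat.card_pos
    exact lt_of_lt_of_le (Nat.mul_pos hL0 h9) h8
  · intro b₀ hb₀ hne
    have h8 := h5 ⟨b₀, hb₀⟩ hne
    refine le_trans (Nat.mul_le_mul ?_ ?_) h8
    · exact Nat.le_of_dvd hL0 hL
    · exact (hconv (fun a => X a = X b₀)).symm.le

/-- If the fibres have one element, then no root is trivial. -/
theorem FD.c_zero [Finite W] (D : FD cs h p q n Z X θ) (hn : 1 ≤ n) (hirr : IrrC cs h)
    (hf : ∀ b₀, IsRoot cs h b₀ → X b₀ ≠ 1 → {a | IsRoot cs h a ∧ X a = X b₀}.ncard ≤ 1) :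
    ∀ a, IsRoot cs h a → X a ≠ 1 := by
  intro a ha h1
  have hfinR : {a | IsRoot cs h a}.Finite := Cfsg.Agent.Nodes.BNOf.RGD.finite_roots (cs := cs) (h := h)
  have h6 : 1 < Nat.card E := by
    rw [D.card]
    exact Nat.one_lt_pow (by omega) hp.out.one_lt
  have hfinE : Finite E := Nat.finite_of_card_ne_zero (by omega)
  obtain ⟨x, hx⟩ : ∃ x : E, x ≠ 1 := by
    have : Nontrivial E := Finite.one_lt_card_iff_nontrivial.1 h6
    exact exists_ne 1
  obtain ⟨b, hb, hbx⟩ := D.sep x hx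
  have h7 : X b ≠ 1 := fun h8 => hbx (by rw [h8]; rfl)
  refine hirr {b | IsRoot cs h b ∧ X b ≠ 1} {b | IsRoot cs h b ∧ X b = 1} (fun b hb => ?_) (fun b hb => hb.1)
    (fun b hb => hb.1) (fun b hb c hc => ?_) ⟨b, hb, h7⟩ ⟨a, ha, h1⟩
  · by_cases h8 : X b = 1
    · exact Or.inr ⟨hb, h8⟩
    · exact Or.inl ⟨hb, h8⟩
  · by_contra hcon
    have h8 := hf b hb.1 hb.2
    have h9 : {a | IsRoot cs h a ∧ X a = X b}.Finite := hfinR.subset fun a ha => ha.1
    rw [Set.ncard_le_one h9] at h8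
    have h10 := h8 b ⟨hb.1, rfl⟩ (b - cpr cs h b c • c) ⟨isRoot_refl cs h hb.1 hc.1, D.refl_eq hc.2 _⟩
    have h11 : cpr cs h b c • c = 0 := by
      have h12 : b - cpr cs h b c • c = b := h10.symm
      rwa [sub_eq_self] at h12
    rcases smul_eq_zero.1 h11 with h12 | h12
    · exact hcon h12
    · exact hc.1.ne_zero h12

/-- injectivity on the roots -/
theorem FD.inj [Finite W] (D : FD cs h p q n Z X θ) (hn : 1 ≤ n) (hirr : IrrC cs h)
    (hf : ∀ b₀, IsRoot cs h b₀ → X b₀ ≠ 1 → {a | IsRoot cs h a ∧ X a = X b₀}.ncard ≤ 1) {a b : I → ℤ}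
    (ha : IsRoot cs h a) (hb : IsRoot cs h b) (hab : X a = X b) : a = b := by
  have hfinR : {a | IsRoot cs h a}.Finite := Cfsg.Agent.Nodes.BNOf.RGD.finite_roots (cs := cs) (h := h)
  have h8 := hf b hb (D.c_zero hn hirr hf b hb)
  have h9 : {a | IsRoot cs h a ∧ X a = X b}.Finite := hfinR.subset fun a ha => ha.1
  rw [Set.ncard_le_one h9] at h8
  exact h8 a ⟨ha, hab⟩ b ⟨hb, rfl⟩

end

/-- `W` acts trivially modulo `m` on the vectors in the radical of the form modulo `m`. -/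
theorem rad (cs : CoxeterSystem M W) (h : IsCartan M A) {m : ℤ} {v : I → ℤ} (hv : ∀ i, m ∣ pairing A i v) (w : W) :
    ∀ j, m ∣ (rep cs h w v - v) j := by
  have key : ∀ w : W, ∃ u : I → ℤ, rep cs h w v = v + m • u := by
    intro w
    induction w using cs.simple_induction_left with
    | one => exact ⟨0, by rw [map_one, Module.End.one_apply, smul_zero, add_zero]⟩
    | mul_simple_left w i ih =>
      obtain ⟨u, hu⟩ := ih
      obtain ⟨c, hc⟩ := hv i
      refine ⟨refl A i u - Pi.single i c, ?_⟩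
      rw [rep_mul_apply, rep_simple, hu, map_add, map_smul, refl_apply A i v, hc, smul_sub]
      have e : (Pi.single i (m * c) : I → ℤ) = m • Pi.single i c := by
        rw [← Pi.single_smul, smul_eq_mul]
      rw [e]
      abel
  intro j
  obtain ⟨u, hu⟩ := key w
  rw [hu, add_sub_cancel_left]
  exact ⟨u j, rfl⟩

end Cfsg.Agent.H319.One.RootC
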