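import Cfsg.Agent.H319.One.RootC
import Cfsg.Agent.Nodes.PosPair

/-!
# Consequences of the count (helper319, S4880)

* `FD.cases`: `L = lcm (2, ord_p q)`: `|Φ| = L Σ` and `X` is injective on the roots, or `|Φ| = c + m Σ` with `m ≥ 2 L`;
* `num`: the finite list of numerical possibilities;
* `FD.theta_one`, `FD.theta_neg_one`, `FD.theta_sq`: the lattice automorphism if `X` is injective on the roots;
* `FD.three_false`: three pairs of trivial roots with many nonorthogonal roots.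
-/

set_option autoImplicit false
set_option linter.unusedSectionVars false

namespace Cfsg.Agent.H319.One.RootC

open CoxeterSystem Cfsg.Agent.ChevalleyStructure.CoxeterGeom Cfsg.Agent.Tits.Roots Cfsg.Agent.Tits.Core
  Cfsg.Agent.Nodes.Coroot Cfsg.Agent.H795.RootConn Cfsg.Agent.Nodes.PosPair

variable {I W : Type*} [Fintype I] [DecidableEq I] [Group W] {M : CoxeterMatrix I}
  {cs : CoxeterSystem M W} {A : I → I → ℤ} {h : IsCartan M A}
  {E K : Type*} [CommGroup E] [Field K] {p q n Z : ℕ} {X : (I → ℤ) → (E →* Kˣ)} {θ : (I → ℤ) ≃+ (I → ℤ)}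
  [hp : Fact p.Prime]

/-- **The two cases.** -/
theorem FD.cases [Finite W] (D : FD cs h p q n Z X θ) (h3 : 3 ≤ p) (hn : 2 ≤ n) (hq : (q : ZMod p) ≠ 0)
    (hirr : IrrC cs h) {N L : ℕ} (hN : {a | IsRoot cs h a}.ncard = N) (hL : L = Nat.lcm 2 (orderOf (q : ZMod p))) :
    (L * ∑ i ∈ Finset.range n, p ^ i = N ∧ ∀ a b, IsRoot cs h a → IsRoot cs h b → X a = X b → a = b) ∨
    ∃ m, 2 * L ≤ m ∧ L ∣ m ∧ N = {a | IsRoot cs h a ∧ X a = 1}.ncard + m * ∑ i ∈ Finset.range n, p ^ i ∧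
      ∀ b₀, IsRoot cs h b₀ → X b₀ ≠ 1 → L * {a | IsRoot cs h a ∧ X a = X b₀}.ncard ≤ m := by
  obtain ⟨c, m, h1, h2, h4, h5, h6⟩ := D.main h3 hn hq
  rw [← hL] at h4 h6
  have hL0 : 0 < L := Nat.pos_of_dvd_of_pos h4 h5
  by_cases hm : m = L
  · left
    have hf : ∀ b₀, IsRoot cs h b₀ → X b₀ ≠ 1 → {a | IsRoot cs h a ∧ X a = X b₀}.ncard ≤ 1 := by
      intro b₀ hb₀ hne
      have h7 := h6 b₀ hb₀ hne
      rw [hm] at h7
      by_contra hcon
      push Not at hcon
      have h8 : L * 2 ≤ L * {a | IsRoot cs h a ∧ X a = X b₀}.ncard := Nat.mul_le_mul_left _ hcon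
      omega
    have hc : c = 0 := by
      rw [h1]
      have h7 : {a | IsRoot cs h a ∧ X a = 1} = ∅ := by
        rw [Set.eq_empty_iff_forall_notMem]
        rintro a ⟨ha, ha1⟩
        exact D.c_zero (by omega) hirr hf a ha ha1
      rw [h7, Set.ncard_empty]
    refine ⟨?_, fun a b ha hb hab => D.inj (by omega) hirr hf ha hb hab⟩
    rw [hN, hc, zero_add, hm] at h2
    exact h2.symm
  · right
    refine ⟨m, ?_, h4, ?_, h6⟩
    · obtain ⟨j, rfl⟩ := h4
      rcases Nat.lt_or_ge j 2 with hj | hj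
      · interval_cases j
        · omega
        · exact absurd (mul_one L) hm
      · rw [mul_comm 2 L]
        exact Nat.mul_le_mul_left _ hj
    · rw [← h1, ← hN]
      exact h2

/-! ### the lattice automorphism -/

theorem FD.X_theta (D : FD cs h p q n Z X θ) {a b : I → ℤ} {j : ℤ} (hj : (q : ZMod p) = (j : ZMod p)) (hb : b = j • a) :
    X (θ a) = X b := by
  refine MonoidHom.ext fun x => ?_
  rw [D.act, hb, D.zsmul, ← zpow_natCast]
  have hx := D.pow_p a x
  have h1 : ((q : ℤ) : ZMod p) = (j : ZMod p) := by exact_mod_cast hj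
  rw [ZMod.intCast_eq_intCast_iff_dvd_sub] at h1
  obtain ⟨t, ht⟩ := h1
  have h2 : j = (q : ℤ) + (p : ℤ) * t := by linarith
  rw [h2, zpow_add, zpow_mul, zpow_natCast, zpow_natCast, hx, one_zpow, mul_one]

theorem FD.theta_one (D : FD cs h p q n Z X θ) (hi : ∀ a b, IsRoot cs h a → IsRoot cs h b → X a = X b → a = b)
    (hq : (q : ZMod p) = 1) {a : I → ℤ} (ha : IsRoot cs h a) : θ a = a :=
  hi _ _ ((D.root a).2 ha) ha (D.X_theta (j := 1) (by push_cast; exact hq) (by rw [one_smul]))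

theorem FD.theta_neg_one (D : FD cs h p q n Z X θ)
    (hi : ∀ a b, IsRoot cs h a → IsRoot cs h b → X a = X b → a = b)
    (hq : (q : ZMod p) = -1) {a : I → ℤ} (ha : IsRoot cs h a) : θ a = -a :=
  hi _ _ ((D.root a).2 ha) ha.neg (D.X_theta (j := -1) (by push_cast; exact hq) (by rw [neg_one_smul]))

theorem FD.theta_sq (D : FD cs h p q n Z X θ)
    (hi : ∀ a b, IsRoot cs h a → IsRoot cs h b → X a = X b → a = b)
    (hq : (q : ZMod p) * q = -1) {a : I → ℤ} (ha : IsRoot cs h a) : θ (θ a) = -a := by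
  refine hi _ _ ((D.root _).2 ((D.root a).2 ha)) ha.neg ?_
  refine MonoidHom.ext fun x => ?_
  rw [D.act, D.act, ← pow_mul, D.neg]
  apply eq_inv_of_mul_eq_one_left
  rw [← pow_succ, ← pow_zero (X a x)]
  apply pow_congr_mod (D.pow_p _ _)
  push_cast
  rw [hq]
  simp

/-! ### many trivial roots -/

/-- Three pairs of trivial roots. -/
theorem FD.three_false [Finite W] (D : FD cs h p q n Z X θ) {N c B : ℕ} (hN : {a | IsRoot cs h a}.ncard = N)
    (hc : {a | IsRoot cs h a ∧ X a = 1}.ncard = c)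
    (hf : ∀ b₀, IsRoot cs h b₀ → X b₀ ≠ 1 → {a | IsRoot cs h a ∧ X a = X b₀}.ncard ≤ 2)
    (hB : ∀ y, IsRoot cs h y → {a | IsRoot cs h a ∧ cpr cs h a y ≠ 0}.ncard = B)
    (h4 : 4 < c) (hlt : N - c < 3 * (B - c)) : False := by
  classical
  have hfinR : {a | IsRoot cs h a}.Finite := Cfsg.Agent.Nodes.BNOf.RGD.finite_roots (cs := cs) (h := h)
  set Φ1 : Set (I → ℤ) := {a | IsRoot cs h a ∧ X a ≠ 1} with hΦ1
  set Φ0 : Set (I → ℤ) := {a | IsRoot cs h a ∧ X a = 1} with hΦ0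
  have f1 : Φ1.Finite := hfinR.subset fun a ha => ha.1
  have f0 : Φ0.Finite := hfinR.subset fun a ha => ha.1
  have hsum : Φ0.ncard + Φ1.ncard = N := by
    rw [← hN, ← Set.ncard_union_eq ?_ f0 f1]
    · congr 1
      ext a
      simp only [Set.mem_union, Set.mem_setOf_eq, hΦ0, hΦ1]
      tauto
    · rw [Set.disjoint_left]
      intro a h1 h2
      exact h2.2 h1.2
  let Nn : (I → ℤ) → Set (I → ℤ) := fun y => {a | a ∈ Φ1 ∧ cpr cs h a y ≠ 0}
  have hNf : ∀ y, (Nn y).Finite := fun y => f1.subset fun a ha => ha.1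
  have hNc : ∀ y, IsRoot cs h y → B - c ≤ (Nn y).ncard := by
    intro y hy
    rw [← hB y hy, ← hc]
    have h1 : {a | IsRoot cs h a ∧ cpr cs h a y ≠ 0} ⊆ Nn y ∪ Φ0 := by
      rintro a ⟨ha, ha'⟩
      by_cases h2 : X a = 1
      · exact Or.inr ⟨ha, h2⟩
      · exact Or.inl ⟨⟨ha, h2⟩, ha'⟩
    have h2 := (Set.ncard_le_ncard h1 ((hNf y).union f0)).trans (Set.ncard_union_le _ _)
    omega
  -- disjointness
  have hdis : ∀ y z, y ∈ Φ0 → z ∈ Φ0 → y ≠ z → y ≠ -z → Disjoint (Nn y) (Nn z) := by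
    intro y z hy hz h1 h2
    rw [Set.disjoint_left]
    rintro b ⟨hb, hby⟩ ⟨-, hbz⟩
    have h5 := hf b hb.1 hb.2
    have h6 : ({b, b - cpr cs h b y • y, b - cpr cs h b z • z} : Set (I → ℤ)) ⊆ {a | IsRoot cs h a ∧ X a = X b} := by
      intro a ha
      simp only [Set.mem_insert_iff, Set.mem_singleton_iff] at ha
      rcases ha with rfl | rfl | rfl
      · exact ⟨hb.1, rfl⟩
      · exact ⟨isRoot_refl cs h hb.1 hy.1, D.refl_eq hy.2 _⟩
      · exact ⟨isRoot_refl cs h hb.1 hz.1, D.refl_eq hz.2 _⟩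
    have h7 := Set.ncard_le_ncard h6 (hfinR.subset fun a ha => ha.1)
    have h8 : ({b, b - cpr cs h b y • y, b - cpr cs h b z • z} : Set (I → ℤ)).ncard = 3 := by
      rw [Set.ncard_eq_three]
      refine ⟨_, _, _, ?_, ?_, ?_, rfl⟩
      · intro h9
        have h10 : cpr cs h b y • y = 0 := by
          rwa [eq_comm, sub_eq_self] at h9
        exact (smul_eq_zero.1 h10).elim hby hy.1.ne_zero
      · intro h9
        have h10 : cpr cs h b z • z = 0 := by
          rwa [eq_comm, sub_eq_self] at h9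
        exact (smul_eq_zero.1 h10).elim hbz hz.1.ne_zero
      · intro h9
        have h10 : cpr cs h b y • y = cpr cs h b z • z := sub_right_injective h9
        rcases eq_or_eq_neg_of_smul cs h hy.1 hz.1 hby h10 with h11 | h11
        · exact h1 h11
        · exact h2 h11
    omega
  -- three pairs
  obtain ⟨y1, hy1⟩ : ∃ y, y ∈ Φ0 := by
    have : Φ0.Nonempty := by
      rw [Set.nonempty_iff_ne_empty]
      intro h0
      rw [h0, Set.ncard_empty] at hc
      omega
    exact this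
  have hex : ∀ s : Finset (I → ℤ), s.card ≤ 4 → ∃ y ∈ Φ0, y ∉ s := by
    intro s hs
    by_contra hcon
    push Not at hcon
    have h1 : Φ0 ⊆ (s : Set (I → ℤ)) := fun y hy => hcon y hy
    have h2 := Set.ncard_le_ncard h1 s.finite_toSet
    rw [Set.ncard_coe_finset, hc] at h2
    omega
  obtain ⟨y2, hy2, hy2'⟩ := hex {y1, -y1} (Finset.card_le_two.trans (by norm_num))
  obtain ⟨y3, hy3, hy3'⟩ := hex {y1, -y1, y2, -y2} Finset.card_le_four
  simp only [Finset.mem_insert, Finset.mem_singleton, not_or] at hy2' hy3'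
  have d12 := hdis y2 y1 hy2 hy1 hy2'.1 hy2'.2
  have d13 := hdis y3 y1 hy3 hy1 hy3'.1 hy3'.2.1
  have d23 := hdis y3 y2 hy3 hy2 hy3'.2.2.1 hy3'.2.2.2
  have h5 : (Nn y1 ∪ Nn y2 ∪ Nn y3).ncard = (Nn y1).ncard + (Nn y2).ncard + (Nn y3).ncard := by
    rw [Set.ncard_union_eq ?_ ((hNf _).union (hNf _)) (hNf _), Set.ncard_union_eq d12.symm (hNf _) (hNf _)]
    exact Set.disjoint_union_left.2 ⟨d13.symm, d23.symm⟩
  have h6 : (Nn y1 ∪ Nn y2 ∪ Nn y3).ncard ≤ Φ1.ncard := by
    refine Set.ncard_le_ncard ?_ f1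
    rintro a ((ha | ha) | ha) <;> exact ha.1
  have := hNc y1 hy1.1
  have := hNc y2 hy2.1
  have := hNc y3 hy3.1
  omega

/-- The number of the roots nonorthogonal to a root. -/
theorem ncard_nonorth [Finite W] {B : ℕ} (hB : ∀ i, {a | IsRoot cs h a ∧ pairing A i a ≠ 0}.ncard = B) {y : I → ℤ}
    (hy : IsRoot cs h y) : {a | IsRoot cs h a ∧ cpr cs h a y ≠ 0}.ncard = B := by
  obtain ⟨w, i, rfl⟩ := hy
  rw [← hB i]
  symm
  refine Set.ncard_congr (fun a _ => rep cs h w a) ?_ ?_ ?_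
  · rintro a ⟨ha, ha'⟩
    refine ⟨ha.act w, ?_⟩
    rw [cpr_rep cs h w a (isRoot_sr cs h i), cpr_sr]
    exact ha'
  · intro a b _ _ hab
    exact rep_injective_apply cs h w hab
  · rintro b ⟨hb, hb'⟩
    refine ⟨rep cs h w⁻¹ b, ⟨hb.act _, ?_⟩, rep_apply_inv cs h w b⟩
    rw [← cpr_sr cs h, ← cpr_rep cs h w _ (isRoot_sr cs h i), rep_apply_inv]
    exact hb'

end Cfsg.Agent.H319.One.RootC

/-! ### numbers -/

namespace Cfsg.Agent.H319.One.Num

/-- `p < 121` is a prime -/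
def pr (p : ℕ) : Bool := (p % 2 != 0) && (p % 3 != 0) && (p % 5 != 0 || p == 5) && (p % 7 != 0 || p == 7)

/-- `1 + p + ... ` -/
def sg (n p : ℕ) : ℕ := if n = 2 then 1 + p else 1 + p + p * p

def cond (N n p d : ℕ) : Bool :=
  (2 ≤ n : Bool) && (5 ≤ p : Bool) && (p != 5 || n == 3) && d != 0 && ((p - 1) % d == 0) && pr p &&
    (Nat.lcm 2 d * sg n p == N || (2 * Nat.lcm 2 d * sg n p ≤ N : Bool))

def chk (N : ℕ) (P : ℕ → ℕ → ℕ → Bool) : Bool :=
  (List.range 4).all fun n => (List.range 120).all fun p => (List.range 31).all fun d => !(cond N n p d) || P p d n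

theorem pr_of_prime {p : ℕ} (hp : p.Prime) (h5 : 5 ≤ p) : pr p = true := by
  have key : ∀ q : ℕ, q ≠ 1 → (p % q ≠ 0 ∨ p = q) := by
    intro q hq
    by_cases h : p % q = 0
    · right
      rcases (Nat.dvd_prime hp).1 (Nat.dvd_of_mod_eq_zero h) with h1 | h1
      · exact absurd h1 hq
      · exact h1.symm
    · exact Or.inl h
  have h2 := key 2 (by norm_num)
  have h3 := key 3 (by norm_num)
  have h5' := key 5 (by norm_num)
  have h7 := key 7 (by norm_num)
  simp only [pr, Bool.and_eq_true, Bool.or_eq_true, bne_iff_ne, ne_eq, beq_iff_eq]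
  refine ⟨⟨⟨?_, ?_⟩, h5'⟩, h7⟩
  · rcases h2 with h | h
    · exact h
    · omega
  · rcases h3 with h | h
    · exact h
    · omega

/-- **The finite list.** -/
theorem num {N p n d L : ℕ} (hN : N ≤ 240) (hp : p.Prime) (h5 : 5 ≤ p) (hn : 2 ≤ n) (hn5 : p = 5 → 3 ≤ n)
    (hd : d ∣ p - 1) (hL : L = Nat.lcm 2 d)
    (h : L * ∑ i ∈ Finset.range n, p ^ i = N ∨ 2 * L * ∑ i ∈ Finset.range n, p ^ i ≤ N)
    {P : ℕ → ℕ → ℕ → Bool} (hP : chk N P = true) : P p d n = true := by
  have hd0 : 0 < d := Nat.pos_of_dvd_of_pos hd (by omega)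
  have hL2 : 2 ≤ L := by
    rw [hL]
    exact Nat.le_of_dvd (Nat.lcm_pos (by norm_num) hd0) (Nat.dvd_lcm_left 2 d)
  have hdL : d ≤ L := by
    rw [hL]
    exact Nat.le_of_dvd (Nat.lcm_pos (by norm_num) hd0) (Nat.dvd_lcm_right 2 d)
  have hle : L * ∑ i ∈ Finset.range n, p ^ i ≤ 240 := by
    rcases h with h | h
    · omega
    · have : L * ∑ i ∈ Finset.range n, p ^ i ≤ 2 * L * ∑ i ∈ Finset.range n, p ^ i :=
        Nat.mul_le_mul_right _ (by omega)
      omega
  have hS : ∑ i ∈ Finset.range n, p ^ i ≤ 120 := by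
    by_contra hcon
    push Not at hcon
    have : 2 * 121 ≤ L * ∑ i ∈ Finset.range n, p ^ i := Nat.mul_le_mul hL2 hcon
    omega
  have hn4 : n < 4 := by
    by_contra hcon
    push Not at hcon
    have h1 : ∑ i ∈ Finset.range 4, p ^ i ≤ ∑ i ∈ Finset.range n, p ^ i :=
      Finset.sum_le_sum_of_subset (Finset.range_subset_range.2 hcon)
    have h2 : p ^ 3 ≤ ∑ i ∈ Finset.range 4, p ^ i :=
      Finset.single_le_sum (f := fun i => p ^ i) (fun i _ => Nat.zero_le _) (Finset.mem_range.2 (by norm_num))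
    have h3 : 5 ^ 3 ≤ p ^ 3 := Nat.pow_le_pow_left h5 3
    omega
  have hsg : ∑ i ∈ Finset.range n, p ^ i = sg n p := by
    have h1 : n = 2 ∨ n = 3 := by omega
    rcases h1 with rfl | rfl
    · rw [Finset.sum_range_succ, Finset.sum_range_succ, Finset.sum_range_zero]
      simp [sg]
    · rw [Finset.sum_range_succ, Finset.sum_range_succ, Finset.sum_range_succ, Finset.sum_range_zero]
      simp [sg]
      ring
  have hp120 : p < 120 := by
    have h1 : ∑ i ∈ Finset.range 2, p ^ i ≤ ∑ i ∈ Finset.range n, p ^ i :=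
      Finset.sum_le_sum_of_subset (Finset.range_subset_range.2 hn)
    have h2 : ∑ i ∈ Finset.range 2, p ^ i = 1 + p := by
      rw [Finset.sum_range_succ, Finset.sum_range_succ, Finset.sum_range_zero]
      simp
    omega
  have hS8 : 8 ≤ ∑ i ∈ Finset.range n, p ^ i := by
    have h1 : ∑ i ∈ Finset.range 2, p ^ i ≤ ∑ i ∈ Finset.range n, p ^ i :=
      Finset.sum_le_sum_of_subset (Finset.range_subset_range.2 hn)
    have h2 : ∑ i ∈ Finset.range 2, p ^ i = 1 + p := by
      rw [Finset.sum_range_succ, Finset.sum_range_succ, Finset.sum_range_zero]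
      simp
    by_cases h7 : 7 ≤ p
    · omega
    · have h6 : p ≠ 6 := by
        rintro rfl
        exact absurd hp (by norm_num)
      have h8 := hn5 (by omega)
      have h9 : n = 3 := by omega
      rw [hsg, h9, show p = 5 by omega]
      decide
  have hd121 : d < 31 := by
    have h1 : L * 8 ≤ L * ∑ i ∈ Finset.range n, p ^ i := Nat.mul_le_mul_left _ hS8
    omega
  rw [chk, List.all_eq_true] at hP
  have h1 := hP n (List.mem_range.2 hn4)
  rw [List.all_eq_true] at h1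
  have h2 := h1 p (List.mem_range.2 hp120)
  rw [List.all_eq_true] at h2
  have h3 := h2 d (List.mem_range.2 hd121)
  have hc : cond N n p d = true := by
    rw [hsg, hL] at h
    simp only [cond, Bool.and_eq_true, Bool.or_eq_true, bne_iff_ne, ne_eq, beq_iff_eq, decide_eq_true_eq]
    refine ⟨⟨⟨⟨⟨⟨hn, h5⟩, ?_⟩, hd0.ne'⟩, Nat.mod_eq_zero_of_dvd hd⟩, pr_of_prime hp h5⟩, h⟩
    by_cases h6 : p = 5
    · right
      have := hn5 h6
      omega
    · exact Or.inl h6
  rw [hc] at h3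
  simpa using h3

end Cfsg.Agent.H319.One.Num
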