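import Mathlib.LinearAlgebra.FiniteDimensional.Lemmas
import Mathlib.FieldTheory.IsAlgClosed.Basic
import Mathlib.GroupTheory.FiniteAbelian.Duality
import Mathlib.GroupTheory.SpecificGroups.Cyclic
import Mathlib.RingTheory.RootsOfUnity.AlgebraicallyClosed

/-!
# Weights of a finite commutative group (helper319, S4880)

`P` finite commutative of order prime to the characteristic of the algebraically closed field `K`, `R` a representation.
* `finrank_eq_sum` : the dimension of an invariant subspace is the sum of the dimensions of its weight spaces;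
* `finrank_fixS` : the dimension of the space of fixed vectors of a subgroup;
* `key` : `P` of exponent `p`, all `x ≠ 1` have fixed spaces of dimension `f`:
  `n + (p ^ b - 1) f = p ^ b A + p ^ (b - 1) (n - A)` for a subgroup of order `p ^ b` with fixed space of dimension `A`.
-/

set_option autoImplicit false
set_option linter.unusedSectionVars false

namespace Cfsg.Agent.H319.One.Weights

open Module Finset

variable {P : Type*} [CommGroup P] [Fintype P] {K : Type*} [Field K]

theorem val_sum_eq_zero {χ : P →* Kˣ} (h : χ ≠ 1) : ∑ x, ((χ x : Kˣ) : K) = 0 := by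
  obtain ⟨y, hy⟩ : ∃ y, χ y ≠ 1 := by
    by_contra hcon
    push Not at hcon
    exact h (MonoidHom.ext hcon)
  have h1 : ((χ y : Kˣ) : K) * ∑ x, ((χ x : Kˣ) : K) = ∑ x, ((χ x : Kˣ) : K) := by
    rw [Finset.mul_sum]
    simp_rw [← Units.val_mul, ← map_mul]
    exact Fintype.sum_equiv (Equiv.mulLeft y) _ _ fun x => rfl
  have h2 : (((χ y : Kˣ) : K) - 1) * ∑ x, ((χ x : Kˣ) : K) = 0 := by rw [sub_mul, h1, one_mul, sub_self]
  refine (mul_eq_zero.1 h2).resolve_left (sub_ne_zero.2 fun h3 => hy (Units.ext ?_))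
  rw [h3, Units.val_one]

section Alg

variable [IsAlgClosed K]

theorem roots (hP : (Fintype.card P : K) ≠ 0) : HasEnoughRootsOfUnity K (Monoid.exponent P) := by
  have hexp : NeZero ((Monoid.exponent P : ℕ) : K) := ⟨by
    intro h
    apply hP
    obtain ⟨k, hk⟩ := Group.exponent_dvd_nat_card (G := P)
    rw [← Nat.card_eq_fintype_card, hk, Nat.cast_mul, h, zero_mul]⟩
  infer_instance

theorem card_dual (hP : (Fintype.card P : K) ≠ 0) : Nat.card (P →* Kˣ) = Fintype.card P := by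
  have := roots hP
  rw [← Nat.card_eq_fintype_card]
  exact CommGroup.card_monoidHom_of_hasEnoughRootsOfUnity P K

theorem finite_dual (hP : (Fintype.card P : K) ≠ 0) : Finite (P →* Kˣ) := by
  apply Nat.finite_of_card_ne_zero
  rw [card_dual hP]
  exact Fintype.card_ne_zero

theorem dual_sum_eq_zero (hP : (Fintype.card P : K) ≠ 0) [Fintype (P →* Kˣ)] {x : P} (hx : x ≠ 1) :
    ∑ χ : P →* Kˣ, ((χ x : Kˣ) : K) = 0 := by
  have := roots hP
  obtain ⟨ψ, hψ⟩ := CommGroup.exists_apply_ne_one_of_hasEnoughRootsOfUnity P K hx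
  have h1 : ((ψ x : Kˣ) : K) * ∑ χ : P →* Kˣ, ((χ x : Kˣ) : K) = ∑ χ : P →* Kˣ, ((χ x : Kˣ) : K) := by
    rw [Finset.mul_sum]
    exact Fintype.sum_equiv (Equiv.mulLeft ψ) _ _ fun χ => by
      rw [← Units.val_mul]; rfl
  have h2 : (((ψ x : Kˣ) : K) - 1) * ∑ χ : P →* Kˣ, ((χ x : Kˣ) : K) = 0 := by rw [sub_mul, h1, one_mul, sub_self]
  refine (mul_eq_zero.1 h2).resolve_left (sub_ne_zero.2 fun h3 => hψ (Units.ext ?_))
  rw [h3, Units.val_one]

end Alg

variable {V : Type*} [AddCommGroup V] [Module K V] (R : P →* Module.End K V)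

/-- the weight space -/
def wt (χ : P →* Kˣ) : Submodule K V where
  carrier := {v | ∀ x, R x v = ((χ x : Kˣ) : K) • v}
  add_mem' := by
    intro v w hv hw x
    rw [map_add, hv, hw, smul_add]
  zero_mem' := by
    intro x
    rw [map_zero, smul_zero]
  smul_mem' := by
    intro c v hv x
    rw [map_smul, hv, smul_comm]

theorem mem_wt {χ : P →* Kˣ} {v : V} : v ∈ wt R χ ↔ ∀ x, R x v = ((χ x : Kˣ) : K) • v := Iff.rfl

/-- the projection -/
noncomputable def pj (χ : P →* Kˣ) : V →ₗ[K] V :=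
  (Fintype.card P : K)⁻¹ • ∑ x : P, (((χ x)⁻¹ : Kˣ) : K) • R x

theorem pj_apply (χ : P →* Kˣ) (v : V) :
    pj R χ v = (Fintype.card P : K)⁻¹ • ∑ x : P, (((χ x)⁻¹ : Kˣ) : K) • R x v := by
  simp [pj, LinearMap.sum_apply]

theorem pj_mem (χ : P →* Kˣ) (v : V) : pj R χ v ∈ wt R χ := by
  intro y
  rw [pj_apply, map_smul, map_sum, smul_comm _ (Fintype.card P : K)⁻¹]
  congr 1
  rw [Finset.smul_sum]
  refine Fintype.sum_equiv (Equiv.mulLeft y) _ _ fun x => ?_
  rw [map_smul, smul_smul]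
  have h1 : R y (R x v) = R (y * x) v := by rw [map_mul]; rfl
  rw [h1]
  show _ = (((χ y : Kˣ) : K) * (((χ (y * x))⁻¹ : Kˣ) : K)) • R (y * x) v
  congr 1
  rw [← Units.val_mul, map_mul, mul_inv, mul_inv_cancel_left]

theorem pj_of_mem (hP : (Fintype.card P : K) ≠ 0) {χ : P →* Kˣ} {v : V} (hv : v ∈ wt R χ) : pj R χ v = v := by
  rw [pj_apply]
  have h1 : ∀ x : P, (((χ x)⁻¹ : Kˣ) : K) • R x v = v := by
    intro x
    rw [hv x, smul_smul, ← Units.val_mul, inv_mul_cancel, Units.val_one, one_smul]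
  simp_rw [h1]
  rw [Finset.sum_const, Finset.card_univ, ← Nat.cast_smul_eq_nsmul K, smul_smul, inv_mul_cancel₀ hP, one_smul]

theorem pj_of_ne {χ ψ : P →* Kˣ} (h : ψ ≠ χ) {v : V} (hv : v ∈ wt R χ) : pj R ψ v = 0 := by
  rw [pj_apply]
  have h1 : ∀ x : P, (((ψ x)⁻¹ : Kˣ) : K) • R x v = (((ψ⁻¹ * χ) x : Kˣ) : K) • v := by
    intro x
    rw [hv x, smul_smul, ← Units.val_mul]
    rfl
  simp_rw [h1]
  rw [← Finset.sum_smul, val_sum_eq_zero, zero_smul, smul_zero]
  intro h2
  apply h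
  have h3 : ∀ x, (ψ x)⁻¹ * χ x = 1 := fun x => DFunLike.congr_fun h2 x
  exact MonoidHom.ext fun x => inv_mul_eq_one.1 (h3 x)

section Alg

variable [IsAlgClosed K]

theorem sum_pj (hP : (Fintype.card P : K) ≠ 0) [Fintype (P →* Kˣ)] (v : V) : ∑ χ : P →* Kˣ, pj R χ v = v := by
  classical
  simp_rw [pj_apply]
  rw [← Finset.smul_sum, Finset.sum_comm]
  have h1 : ∀ x : P, ∑ χ : P →* Kˣ, (((χ x)⁻¹ : Kˣ) : K) • R x v = if x = 1 then (Fintype.card P : K) • v else 0 := by
    intro x
    rw [← Finset.sum_smul]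
    split_ifs with hx
    · subst hx
      have h2 : ∀ χ : P →* Kˣ, (((χ 1)⁻¹ : Kˣ) : K) = 1 := by
        intro χ
        rw [map_one, inv_one, Units.val_one]
      simp_rw [h2]
      rw [Finset.sum_const, Finset.card_univ, nsmul_eq_mul, mul_one, map_one, ← Nat.card_eq_fintype_card, card_dual hP]
      rfl
    · have h2 : ∀ χ : P →* Kˣ, (((χ x)⁻¹ : Kˣ) : K) = ((χ x⁻¹ : Kˣ) : K) := by
        intro χ
        rw [map_inv]
      simp_rw [h2]
      rw [dual_sum_eq_zero hP (inv_ne_one.2 hx), zero_smul]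
  simp_rw [h1]
  rw [Finset.sum_ite_eq' Finset.univ (1 : P), if_pos (Finset.mem_univ _), smul_smul, inv_mul_cancel₀ hP, one_smul]

/-- the decomposition into weight spaces -/
noncomputable def decomp (hP : (Fintype.card P : K) ≠ 0) [Fintype (P →* Kˣ)] (W : Submodule K V)
    (hW : ∀ x, ∀ v ∈ W, R x v ∈ W) : W ≃ₗ[K] ((χ : P →* Kˣ) → ↥(W ⊓ wt R χ)) :=
  have hpj : ∀ χ, ∀ v ∈ W, pj R χ v ∈ W := fun χ v hv => by
    rw [pj_apply]
    exact W.smul_mem _ (W.sum_mem fun x _ => W.smul_mem _ (hW x v hv))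
  { toFun := fun v χ => ⟨pj R χ v, hpj χ v v.2, pj_mem R χ v⟩
    map_add' := by
      intro v w
      funext χ
      apply Subtype.ext
      exact map_add (pj R χ) _ _
    map_smul' := by
      intro c v
      funext χ
      apply Subtype.ext
      exact map_smul (pj R χ) _ _
    invFun := fun u => ∑ χ, ⟨(u χ : V), (u χ).2.1⟩
    left_inv := by
      intro v
      apply Subtype.ext
      rw [Submodule.coe_sum]
      exact sum_pj R hP (v : V)
    right_inv := by
      intro u
      funext ψ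
      apply Subtype.ext
      show pj R ψ ((∑ χ, ⟨(u χ : V), (u χ).2.1⟩ : W) : V) = (u ψ : V)
      rw [Submodule.coe_sum, map_sum, Finset.sum_eq_single ψ]
      · exact pj_of_mem R hP (u ψ).2.2
      · intro χ _ hχ
        exact pj_of_ne R hχ.symm (u χ).2.2
      · intro h
        exact absurd (Finset.mem_univ _) h }

theorem finrank_eq_sum [FiniteDimensional K V] (hP : (Fintype.card P : K) ≠ 0) [Fintype (P →* Kˣ)] (W : Submodule K V)
    (hW : ∀ x, ∀ v ∈ W, R x v ∈ W) : finrank K W = ∑ χ : P →* Kˣ, finrank K ↥(W ⊓ wt R χ) := by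
  rw [(decomp R hP W hW).finrank_eq, Module.finrank_pi_fintype]

end Alg

/-- the fixed vectors of a subgroup -/
def fixS (Q : Subgroup P) : Submodule K V where
  carrier := {v | ∀ x ∈ Q, R x v = v}
  add_mem' := by
    intro v w hv hw x hx
    rw [map_add, hv x hx, hw x hx]
  zero_mem' := by
    intro x _
    rw [map_zero]
  smul_mem' := by
    intro c v hv x hx
    rw [map_smul, hv x hx]

theorem mem_fixS {Q : Subgroup P} {v : V} : v ∈ fixS R Q ↔ ∀ x ∈ Q, R x v = v := Iff.rfl

theorem fixS_stable (Q : Subgroup P) (x : P) (v : V) (hv : v ∈ fixS R Q) : R x v ∈ fixS R Q := by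
  intro y hy
  have h1 : R y (R x v) = R x (R y v) := by
    have h2 : (R y * R x) v = (R x * R y) v := by rw [← map_mul, mul_comm, map_mul]
    exact h2
  rw [h1, hv y hy]

theorem finrank_fixS [IsAlgClosed K] [FiniteDimensional K V] (hP : (Fintype.card P : K) ≠ 0) [Fintype (P →* Kˣ)]
    (Q : Subgroup P) [∀ χ : P →* Kˣ, Decidable (Q ≤ χ.ker)] :
    finrank K ↥(fixS R Q) = ∑ χ : P →* Kˣ, if Q ≤ χ.ker then finrank K ↥(wt R χ) else 0 := by
  rw [finrank_eq_sum R hP _ (fixS_stable R Q)]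
  refine Finset.sum_congr rfl fun χ _ => ?_
  split_ifs with h
  · have h1 : fixS R Q ⊓ wt R χ = wt R χ := by
      apply inf_eq_right.2
      intro v hv x hx
      rw [hv x, show χ x = 1 from h hx, Units.val_one, one_smul]
    rw [h1]
  · obtain ⟨x, hx, hx'⟩ := SetLike.not_le_iff_exists.1 h
    have h1 : fixS R Q ⊓ wt R χ = ⊥ := by
      rw [eq_bot_iff]
      rintro v ⟨hv1, hv2⟩
      have h2 := hv1 x hx
      rw [hv2 x] at h2
      have h3 : (((χ x : Kˣ) : K) - 1) • v = 0 := by rw [sub_smul, one_smul, h2, sub_self]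
      rcases smul_eq_zero.1 h3 with h4 | h4
      · exfalso
        apply hx'
        rw [MonoidHom.mem_ker]
        exact Units.ext (by rw [sub_eq_zero.1 h4, Units.val_one])
      · exact (Submodule.mem_bot K).2 h4
    rw [h1, finrank_bot]

/-- the order of the kernel on a group of exponent `p` -/
theorem card_inf_ker {p b : ℕ} (hp : p.Prime) (hexp : ∀ x : P, x ^ p = 1) (Q : Subgroup P) (hQ : Nat.card Q = p ^ (b + 1))
    (χ : P →* Kˣ) (h : ¬ Q ≤ χ.ker) : Nat.card ↥(Q ⊓ χ.ker) = p ^ b := by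
  classical
  let φ : Q →* Kˣ := χ.comp Q.subtype
  have h1 : Nat.card φ.ker = Nat.card ↥(Q ⊓ χ.ker) := by
    have h2 : φ.ker.map Q.subtype = Q ⊓ χ.ker := by
      ext x
      constructor
      · rintro ⟨y, hy, rfl⟩
        exact ⟨y.2, hy⟩
      · rintro ⟨hx, hx'⟩
        exact ⟨⟨x, hx⟩, hx', rfl⟩
    rw [← h2]
    exact (Nat.card_congr (φ.ker.equivMapOfInjective Q.subtype (Subgroup.subtype_injective _)).toEquiv)
  have h3 : Nat.card φ.ker * Nat.card φ.range = p ^ (b + 1) := by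
    rw [← hQ, ← Nat.card_congr (QuotientGroup.quotientKerEquivRange φ).toEquiv, mul_comm]
    exact (Subgroup.card_eq_card_quotient_mul_card_subgroup φ.ker).symm
  have hfr : Finite φ.range := Finite.of_surjective φ.rangeRestrict φ.rangeRestrict_surjective
  have h4 : IsCyclic φ.range := inferInstance
  have h5 : Nat.card φ.range ∣ p := by
    obtain ⟨g, hg⟩ := h4.exists_generator
    rw [← orderOf_eq_card_of_forall_mem_zpowers hg]
    apply orderOf_dvd_of_pow_eq_one
    obtain ⟨y, hy⟩ := g.2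
    apply Subtype.ext
    show (g : Kˣ) ^ p = 1
    rw [← hy, ← map_pow]
    have h6 : y ^ p = 1 := Subtype.ext (hexp y)
    rw [h6, map_one]
  have h7 : Nat.card φ.range ≠ 1 := by
    intro h8
    apply h
    intro x hx
    have h9 := (Subgroup.card_eq_one.1 h8)
    have h10 : φ ⟨x, hx⟩ ∈ φ.range := ⟨_, rfl⟩
    rw [h9, Subgroup.mem_bot] at h10
    exact h10
  rcases (Nat.dvd_prime hp).1 h5 with h8 | h8
  · exact absurd h8 h7
  · rw [h8, pow_succ] at h3
    rw [← h1]
    exact Nat.eq_of_mul_eq_mul_right hp.pos h3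

/-- **The key formula.** -/
theorem key [IsAlgClosed K] [FiniteDimensional K V] {p b f : ℕ} (hp : p.Prime) (hP : (Fintype.card P : K) ≠ 0)
    (hexp : ∀ x : P, x ^ p = 1) (hf : ∀ x : P, x ≠ 1 → finrank K ↥(fixS R (Subgroup.zpowers x)) = f) (Q : Subgroup P)
    (hQ : Nat.card Q = p ^ (b + 1)) :
    finrank K V + (p ^ (b + 1) - 1) * f =
      p ^ b * finrank K V + (p ^ (b + 1) - p ^ b) * finrank K ↥(fixS R Q) := by
  classical
  have := finite_dual hP
  have : Fintype (P →* Kˣ) := Fintype.ofFinite _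
  set m : (P →* Kˣ) → ℕ := fun χ => finrank K ↥(wt R χ) with hm
  have hV : finrank K V = ∑ χ, m χ := by
    have h1 := finrank_eq_sum R hP ⊤ (fun _ _ _ => Submodule.mem_top)
    rw [finrank_top] at h1
    rw [h1]
    refine Finset.sum_congr rfl fun χ _ => ?_
    rw [top_inf_eq]
  -- double counting
  have h1 : ∑ x : Q, finrank K ↥(fixS R (Subgroup.zpowers (x : P))) =
      ∑ χ, m χ * Nat.card ↥(Q ⊓ χ.ker) := by
    have h2 : ∀ x : Q, finrank K ↥(fixS R (Subgroup.zpowers (x : P))) = ∑ χ : P →* Kˣ, if χ (x : P) = 1 then m χ else 0 := by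
      intro x
      rw [finrank_fixS R hP]
      refine Finset.sum_congr rfl fun χ _ => ?_
      have h3 : Subgroup.zpowers (x : P) ≤ χ.ker ↔ χ (x : P) = 1 := by
        rw [Subgroup.zpowers_le, MonoidHom.mem_ker]
      by_cases h4 : χ (x : P) = 1
      · rw [if_pos (h3.2 h4), if_pos h4]
      · rw [if_neg (fun h5 => h4 (h3.1 h5)), if_neg h4]
    simp_rw [h2]
    rw [Finset.sum_comm]
    refine Finset.sum_congr rfl fun χ _ => ?_
    rw [← Finset.sum_filter, Finset.sum_const, smul_eq_mul, mul_comm]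
    congr 1
    rw [Nat.card_eq_fintype_card, ← Fintype.card_subtype]
    refine Fintype.card_congr ⟨fun y => ⟨y.1.1, y.1.2, y.2⟩, fun y => ⟨⟨y.1, y.2.1⟩, y.2.2⟩, fun y => rfl, fun y => rfl⟩
  have h2 : ∑ x : Q, finrank K ↥(fixS R (Subgroup.zpowers (x : P))) = finrank K V + (p ^ (b + 1) - 1) * f := by
    rw [← Finset.add_sum_erase Finset.univ _ (Finset.mem_univ (1 : Q))]
    have h3 : fixS R (Subgroup.zpowers ((1 : Q) : P)) = ⊤ := by
      rw [eq_top_iff]
      rintro v - x hx
      have h4 : x = 1 := by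
        have h5 : x ∈ Subgroup.zpowers (1 : P) := hx
        rwa [Subgroup.zpowers_one_eq_bot, Subgroup.mem_bot] at h5
      rw [h4, map_one]
      rfl
    rw [h3, finrank_top]
    congr 1
    rw [Finset.sum_congr rfl (g := fun _ => f) (fun x hx => hf _ fun h4 =>
      (Finset.mem_erase.1 hx).1 (Subtype.ext h4)), Finset.sum_const, smul_eq_mul,
      Finset.card_erase_of_mem (Finset.mem_univ _), Finset.card_univ, ← Nat.card_eq_fintype_card, hQ]
  rw [← h2, h1, finrank_fixS R hP, hV, Finset.mul_sum, Finset.mul_sum, ← Finset.sum_add_distrib]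
  refine Finset.sum_congr rfl fun χ _ => ?_
  by_cases h : Q ≤ χ.ker
  · rw [if_pos h, inf_eq_left.2 h, hQ]
    have h3 : p ^ b ≤ p ^ (b + 1) := Nat.pow_le_pow_right hp.pos (Nat.le_succ b)
    rw [← add_mul, Nat.add_sub_cancel' h3, mul_comm]
  · rw [if_neg h, card_inf_ker hp hexp Q hQ χ h, mul_zero, add_zero, mul_comm]

end Cfsg.Agent.H319.One.Weights
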